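import Cfsg.Agent.H134.Bert
import Mathlib.Data.Int.GCD
import Mathlib.GroupTheory.SpecificGroups.Alternating
import Mathlib.Data.Nat.Factorial.Basic
import Mathlib.Tactic

/-!
# The word `x ^ k * y ^ l` on finite groups

`KL S k l` : every element of `S` is a value of `x ^ k * y ^ l`.
Trivial case `gcd = 1`, invariance, and the alternating groups (S2453).
-/

set_option autoImplicit false

namespace Cfsg.Agent.H134.War

/-- Every element is a value of the word `x ^ k * y ^ l`. -/
def KL (S : Type*) [Group S] (k l : ℕ) : Prop := ∀ g : S, ∃ x y : S, g = x ^ k * y ^ l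

theorem KL.congr {S T : Type*} [Group S] [Group T] (e : S ≃* T) {k l : ℕ} (h : KL S k l) :
    KL T k l := by
  intro g
  obtain ⟨x, y, hxy⟩ := h (e.symm g)
  refine ⟨e x, e y, ?_⟩
  rw [← map_pow, ← map_pow, ← map_mul, ← hxy, e.apply_symm_apply]

theorem KL.of_surjective {S T : Type*} [Group S] [Group T] {f : S →* T}
    (hf : Function.Surjective f) {k l : ℕ} (h : KL S k l) : KL T k l := by
  intro g
  obtain ⟨s, rfl⟩ := hf g
  obtain ⟨x, y, hxy⟩ := h s
  exact ⟨f x, f y, by rw [← map_pow, ← map_pow, ← map_mul, ← hxy]⟩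

theorem KL.symm {S : Type*} [Group S] {k l : ℕ} (h : KL S k l) : KL S l k := by
  intro g
  obtain ⟨x, y, hxy⟩ := h g
  refine ⟨x ^ k * y * (x ^ k)⁻¹, x, ?_⟩
  rw [hxy, conj_pow]
  group

/-- Coprime exponents: `g` itself is a product of a `k`-th and an `l`-th power of powers of
`g`. -/
theorem war_of_coprime {S : Type*} [Group S] [Finite S] {k l : ℕ} (h : k.Coprime l) :
    KL S k l := by
  intro g
  have hb := Nat.gcd_eq_gcd_ab k l
  rw [Nat.Coprime.gcd_eq_one h] at hb
  refine ⟨g ^ (k.gcdA l), g ^ (k.gcdB l), ?_⟩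
  rw [← zpow_natCast, ← zpow_natCast, ← zpow_mul, ← zpow_mul, ← zpow_add, mul_comm (k.gcdA l),
    mul_comm (k.gcdB l), ← hb]
  simp

/-- The modulus for the cycle length. -/
theorem lcm_bound {k l : ℕ} (hk : 1 ≤ k) (hl : 1 ≤ l) (h : ¬ k.Coprime l) :
    3 * Nat.lcm 2 (Nat.lcm k l) ≤ 2 * (max k l) ^ 2 := by
  set m := max k l with hm
  have hkm : k ≤ m := le_max_left _ _
  have hlm : l ≤ m := le_max_right _ _
  have hkl : k * l ≤ m ^ 2 := by
    calc k * l ≤ m * m := Nat.mul_le_mul hkm hlm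
      _ = m ^ 2 := by ring
  have hg : k.gcd l * k.lcm l = k * l := Nat.gcd_mul_lcm k l
  have hg0 : 0 < k.gcd l := Nat.gcd_pos_of_pos_left l hk
  have hg1 : k.gcd l ≠ 1 := h
  by_cases h2 : 2 ∣ k.lcm l
  · rw [Nat.lcm_eq_right h2]
    have : 2 * k.lcm l ≤ k.gcd l * k.lcm l := Nat.mul_le_mul_right _ (by omega)
    omega
  · have hg3 : 3 ≤ k.gcd l := by
      by_contra hc
      have : k.gcd l = 2 := by omega
      apply h2
      rw [← this]
      exact (Nat.gcd_dvd_left k l).trans (Nat.dvd_lcm_left k l)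
    have h4 : Nat.lcm 2 (k.lcm l) ≤ 2 * k.lcm l :=
      Nat.le_of_dvd (Nat.mul_pos (by norm_num) (Nat.lcm_pos hk hl)) (Nat.lcm_dvd_mul _ _)
    have : 3 * k.lcm l ≤ k.gcd l * k.lcm l := Nat.mul_le_mul_right _ hg3
    omega

/-- The degree of a large alternating group. -/
theorem degree_bound {m n : ℕ} (hm : 3 ≤ m) (h : m ^ (8 * m ^ 2) ≤ n.factorial) :
    8 * m ^ 2 ≤ 3 * n := by
  by_contra hc
  push Not at hc
  have h1 : n ≤ m ^ 3 := by
    have : 8 * m ^ 2 ≤ 3 * m ^ 3 := by 
      have h3 : m ^ 3 = m * m ^ 2 := by ring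
      rw [h3]
      nlinarith [Nat.mul_le_mul_right (m ^ 2) hm]
    omega
  have h2 : n.factorial ≤ m ^ (3 * n) := by
    calc n.factorial ≤ n ^ n := Nat.factorial_le_pow n
      _ ≤ (m ^ 3) ^ n := Nat.pow_le_pow_left h1 n
      _ = m ^ (3 * n) := by rw [← pow_mul]
  have h3 : m ^ (3 * n) < m ^ (8 * m ^ 2) := Nat.pow_lt_pow_right (by omega) hc
  omega

theorem exists_mod_one {L a : ℕ} (hL : 0 < L) : ∃ c, a ≤ c ∧ c < a + L ∧ c % L = 1 % L := by
  refine ⟨a + ((1 % L + (L - a % L)) % L), by omega, ?_, ?_⟩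
  · have := Nat.mod_lt (1 % L + (L - a % L)) hL
    omega
  · have ha := Nat.mod_lt a hL
    rw [Nat.add_mod_mod]
    have h1 : a + (1 % L + (L - a % L)) = 1 % L + L * (a / L + 1) := by
      have := Nat.div_add_mod a L
      rw [mul_add, mul_one]
      omega
    rw [h1, Nat.add_mul_mod_self_left, Nat.mod_mod]

/-- The alternating groups: the row of S2453. -/
theorem war_alt (n k l : ℕ) (hk : 1 ≤ k) (hl : 1 ≤ l)
    (hbig : (max k l) ^ (8 * (max k l) ^ 2) ≤ Nat.card (alternatingGroup (Fin n))) :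
    KL (alternatingGroup (Fin n)) k l := by
  by_cases hco : k.Coprime l
  · exact war_of_coprime hco
  intro g
  set m := max k l with hm
  have hcard : Nat.card (alternatingGroup (Fin n)) ≤ n.factorial := by
    calc Nat.card (alternatingGroup (Fin n)) ≤ Nat.card (Equiv.Perm (Fin n)) :=
          Subgroup.card_le_card_group _
      _ = n.factorial := by rw [Nat.card_perm, Nat.card_eq_fintype_card, Fintype.card_fin]
  set L := Nat.lcm 2 (Nat.lcm k l) with hLdef
  have hL0 : 0 < L := Nat.lcm_pos (by norm_num) (Nat.lcm_pos hk hl)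
  have hLb : 3 * L ≤ 2 * m ^ 2 := lcm_bound hk hl hco
  have hm2 : 2 ≤ m := by
    by_contra hc
    apply hco
    have : k = 1 := by have := le_max_left k l; omega
    rw [this]
    exact Nat.coprime_one_left l
  have hfac : m ^ (8 * m ^ 2) ≤ n.factorial := hbig.trans hcard
  have hLn : 4 * L ≤ n + 4 := by
    by_cases hm3 : 3 ≤ m
    · have := degree_bound hm3 hfac
      omega
    · have hm2' : m = 2 := by omega
      rw [hm2'] at hLb hfac
      have hn4 : 4 ≤ n := by
        by_contra hc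
        have : n.factorial ≤ (3).factorial := Nat.factorial_le (by omega)
        have h6 : (3).factorial = 6 := rfl
        have : (2 : ℕ) ^ (8 * 2 ^ 2) = 4294967296 := by norm_num
        omega
      omega
  obtain ⟨c, hc1, hc2, hc3⟩ := exists_mod_one (a := (3 * n + 3) / 4) hL0
  have hcop : c.Coprime L := by
    rw [Nat.Coprime, Nat.gcd_comm, Nat.gcd_rec, hc3, ← Nat.gcd_rec, Nat.gcd_one_right]
  have h2L : 2 ∣ L := Nat.dvd_lcm_left _ _
  have hkL : k ∣ L := (Nat.dvd_lcm_left k l).trans (Nat.dvd_lcm_right _ _)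
  have hlL : l ∣ L := (Nat.dvd_lcm_right k l).trans (Nat.dvd_lcm_right _ _)
  have hodd : Odd c := Nat.Coprime.odd_of_right (hcop.coprime_dvd_right h2L)
  refine Bert.alt_waring hodd (hcop.coprime_dvd_right hkL) (hcop.coprime_dvd_right hlL) ?_ ?_ g
  · rw [Fintype.card_fin]; omega
  · rw [Fintype.card_fin]; omega

end Cfsg.Agent.H134.War
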