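import Cfsg.Agent.H134.SmallB2

/-!
# Central extensions of the group presented by (R1), (R2) of type `B₂` over the field with three elements
-/

set_option autoImplicit false

namespace Cfsg.Agent.H134.B2Three

open Cfsg.Lie Cfsg.Agent.ChevalleyStructure Cfsg.Agent.ChevalleyStructure.Elts
  Cfsg.Agent.ChevalleyStructure.St.Functional Cfsg.Agent.ChevalleyStructure.RootCombGood
  Cfsg.Agent.H133.ScRels Cfsg.Agent.H133.ScTheta Cfsg.Agent.H134.FamInj Cfsg.Agent.H134.LiftStep
  Cfsg.Agent.H134.Lift Cfsg.Agent.H134.LiftMain Cfsg.Agent.H134.LiftMore Cfsg.Agent.H134.Universal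
  Cfsg.Agent.H134.SmallD4
open Cfsg.Agent.ChevalleyStructure.St.Conj (lin lin_def lin_comb lin_neg Tab)
open Cfsg.Agent.H134.PairFacts (dot dot_eq lin_co)
open Cfsg.Agent.H134.SmallB2 (fn lin_fn)

open scoped commutatorElement

universe u v w

/-- long roots -/
def Long (s : ℕ) : Prop := s = 0 ∨ s = 3 ∨ s = 4 ∨ s = 7
/-- short roots -/
def Short (s : ℕ) : Prop := s = 1 ∨ s = 2 ∨ s = 5 ∨ s = 6

instance (s : ℕ) : Decidable (Long s) := inferInstanceAs (Decidable (_ ∨ _))
instance (s : ℕ) : Decidable (Short s) := inferInstanceAs (Decidable (_ ∨ _))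

theorem Long.lt {s : ℕ} (h : Long s) : s < 8 := by rcases h with rfl | rfl | rfl | rfl <;> norm_num
theorem Short.lt {s : ℕ} (h : Short s) : s < 8 := by rcases h with rfl | rfl | rfl | rfl <;> norm_num

section

variable {K : Type u} [Field K] (h2 : (2 : K) ≠ 0) (h3 : (3 : K) = 0) (hall : ∀ t : K, t = 0 ∨ t = 1 ∨ t = -1)
  {E : Type v} [Group E] {π : E →* chevB2.SteinbergCover K} (hsurj : Function.Surjective π)
  (hc : π.ker ≤ Subgroup.center E)

/-- The scalars of the torus element. -/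
noncomputable def sg (K : Type u) [Field K] : ℕ → K := fun s => (-1 : K) ^ lin chevB2 (fn 0 1) s

theorem sg_short {s : ℕ} (h : Short s) : sg K s = -1 := by
  unfold sg
  rw [lin_fn]
  have h1 : 0 * chevB2.cartan 0 s + 1 * chevB2.cartan 1 s = 1 ∨ 0 * chevB2.cartan 0 s + 1 * chevB2.cartan 1 s = -1 := by
    rcases h with rfl | rfl | rfl | rfl <;> decide
  rcases h1 with h1 | h1 <;> rw [h1]
  · rw [zpow_one]
  · rw [zpow_neg_one, inv_neg, inv_one]

theorem sg_long {s : ℕ} (h : Long s) : sg K s = 1 := by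
  unfold sg
  rw [lin_fn]
  have h1 : 0 * chevB2.cartan 0 s + 1 * chevB2.cartan 1 s = 2 ∨ 0 * chevB2.cartan 0 s + 1 * chevB2.cartan 1 s = -2 ∨
      0 * chevB2.cartan 0 s + 1 * chevB2.cartan 1 s = 0 := by
    rcases h with rfl | rfl | rfl | rfl <;> decide
  rcases h1 with h1 | h1 | h1 <;> rw [h1]
  · norm_num
  · rw [zpow_neg]; norm_num
  · norm_num

theorem exists_sg : ∃ h : chevB2.SteinbergCover K, Act h (sg K) :=
  exists_act SmallB2.inList (fn 0 1) (neg_ne_zero.2 one_ne_zero)

include h2 in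
theorem m1_ne : (-1 : K) ≠ 1 := fun h => h2 (by linear_combination -h)

include hsurj hc hall in
/-- The preimage of a root subgroup is abelian. -/
theorem ab (s : ℕ) : Ab chevB2 π s := by
  have hcomm : ∀ t u : K, chevB2.scGen K s t * chevB2.scGen K s u = chevB2.scGen K s u * chevB2.scGen K s t := by
    intro t u
    rw [scGen_add', scGen_add', add_comm]
  have h1 : B hsurj (chevB2.scGen K s 1) (chevB2.scGen K s 1) = 1 := by
    unfold B
    rw [commutatorElement_self]
  intro p q t u hp hq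
  exact (B_eq_one_iff hsurj hc).1 (B_of_one hsurj hc hall hcomm h1 t u) p q hp hq

include hsurj hc h2 in
/-- Lifts of long and short root elements at 45 degrees commute. -/
theorem comm45 {s a : ℕ} (hs : Long s) (ha : Short a) (h : a ≠ s ∧ a ≠ chevB2.neg s ∧ chevB2.commTerms s a = [])
    {p q : E} {t u : K} (hp : π p = chevB2.scGen K s t) (hq : π q = chevB2.scGen K a u) : p * q = q * p := by
  obtain ⟨g, H⟩ := exists_sg (K := K)
  exact commute_of_act hsurj hc hs.lt ha.lt (fun t u => comm_of_nil hs.lt ha.lt h.1 h.2.1 h.2.2 t u) H (sg_long hs)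
    (by rw [sg_short ha]; exact m1_ne h2) hp hq

/-- Lifts of the short root elements. -/
noncomputable def z (hsurj : Function.Surjective π) (s : ℕ) (u : K) : E :=
  yy hsurj (fun _ => (exists_sg (K := K)).choose) (fun _ => sg K) s u

include h2 in
theorem map_z {s : ℕ} (hs : Short s) (u : K) : π (z hsurj s u) = chevB2.scGen K s u :=
  LiftMore.map_yy hsurj _ _ (exists_sg (K := K)).choose_spec (by rw [sg_short hs]; exact m1_ne h2) hs.lt u

include h2 hc hall in
theorem z_add {s : ℕ} (hs : Short s) (t u : K) : z hsurj s t * z hsurj s u = z hsurj s (t + u) :=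
  LiftMore.yy_add hsurj hc _ _ (exists_sg (K := K)).choose_spec (by rw [sg_short hs]; exact m1_ne h2) hs.lt
    (ab hall hsurj hc s) t u

/-- The commutator of lifts. -/
noncomputable def F (hsurj : Function.Surjective π) (a b : ℕ) (t u : K) : E :=
  (z hsurj b u)⁻¹ * (z hsurj a t)⁻¹ * z hsurj b u * z hsurj a t

/-- Orthogonal short roots `a`, `b` and the long root `s = a + b`. -/
structure Tri (a b s : ℕ) : Prop where
  ha : Short a
  hb : Short b
  hs : Long s
  ab : b ≠ a ∧ b ≠ chevB2.neg a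
  ba : a ≠ chevB2.neg b
  t1 : chevB2.commTerms a b = [(s, 2, 1, 1)]
  t2 : chevB2.commTerms b a = [(s, -2, 1, 1)]
  sa : a ≠ s ∧ a ≠ chevB2.neg s ∧ chevB2.commTerms s a = [] ∧ chevB2.commTerms a s = []
  sb : b ≠ s ∧ b ≠ chevB2.neg s ∧ chevB2.commTerms s b = [] ∧ chevB2.commTerms b s = []

variable {a b s : ℕ} (T : Tri a b s)

include h2 h3 T in
theorem map_F (t u : K) : π (F hsurj a b t u) = chevB2.scGen K s (t * u) := by
  unfold F
  rw [map_mul, map_mul, map_mul, map_inv, map_inv, map_z h2 hsurj T.ha, map_z h2 hsurj T.hb]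
  have h1 := scGen_comm (K := K) (D := chevB2) T.ha.lt T.hb.lt T.ab.1 T.ab.2 t u
  rw [h1]
  show word chevB2 K ((chevB2.commTerms a b).map fun c => (c.1, (c.2.1 : K) * (-t) ^ c.2.2.1 * u ^ c.2.2.2)) = _
  rw [T.t1, List.map_cons, List.map_nil, word_cons, word_nil, mul_one]
  congr 1
  show ((2 : ℤ) : K) * (-t) ^ 1 * u ^ 1 = t * u
  push_cast
  linear_combination -(t * u) * h3

include h2 h3 T hc in
theorem F_comm_a (t u v : K) : F hsurj a b t u * z hsurj a v = z hsurj a v * F hsurj a b t u :=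
  comm45 h2 hsurj hc T.hs T.ha ⟨T.sa.1, T.sa.2.1, T.sa.2.2.1⟩ (map_F h2 h3 hsurj T t u) (map_z h2 hsurj T.ha v)

include h2 h3 T hc in
theorem F_comm_b (t u v : K) : F hsurj a b t u * z hsurj b v = z hsurj b v * F hsurj a b t u :=
  comm45 h2 hsurj hc T.hs T.hb ⟨T.sb.1, T.sb.2.1, T.sb.2.2.1⟩ (map_F h2 h3 hsurj T t u) (map_z h2 hsurj T.hb v)

include h2 h3 T hc hall in
theorem F_add_right (t u u' : K) : F hsurj a b t (u + u') = F hsurj a b t u * F hsurj a b t u' := by
  have h1 : F hsurj a b t (u + u') =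
      (z hsurj b u')⁻¹ * F hsurj a b t u * (z hsurj a t)⁻¹ * z hsurj b u' * z hsurj a t := by
    unfold F
    rw [← z_add h2 hall hsurj hc T.hb]
    group
  have h4 : (z hsurj b u')⁻¹ * F hsurj a b t u = F hsurj a b t u * (z hsurj b u')⁻¹ := by
    rw [inv_mul_eq_iff_eq_mul, ← mul_assoc, ← F_comm_b h2 h3 hsurj hc T, mul_inv_cancel_right]
  rw [h1, h4]
  unfold F
  group

include h2 h3 T hc hall in
theorem F_add_left (t t' u : K) : F hsurj a b (t + t') u = F hsurj a b t u * F hsurj a b t' u := by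
  have h1 : F hsurj a b (t + t') u =
      (z hsurj b u)⁻¹ * (z hsurj a t')⁻¹ * z hsurj b u * F hsurj a b t u * z hsurj a t' := by
    unfold F
    rw [← z_add h2 hall hsurj hc T.ha]
    group
  rw [h1, mul_assoc, F_comm_a h2 h3 hsurj hc T, ← mul_assoc]
  -- (z b u)⁻¹ (z a t')⁻¹ z b u z a t' * F t u
  have h5 : (z hsurj b u)⁻¹ * (z hsurj a t')⁻¹ * z hsurj b u * z hsurj a t' = F hsurj a b t' u := rfl
  rw [h5]
  -- commute
  have h6 : F hsurj a b t' u * F hsurj a b t u = F hsurj a b t u * F hsurj a b t' u :=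
    ab hall hsurj hc s _ _ _ _ (map_F h2 h3 hsurj T t' u) (map_F h2 h3 hsurj T t u)
  exact h6

include h2 h3 T hc hall in
/-- The commutator depends on the product of the parameters. -/
theorem F_eq (t u : K) : F hsurj a b t u = F hsurj a b 1 (t * u) := by
  have l0 : ∀ u, F hsurj a b 0 u = 1 := by
    intro u
    have h := F_add_left h2 h3 hall hsurj hc T 0 0 u
    rw [add_zero] at h
    exact left_eq_mul.1 h
  have r0 : ∀ t, F hsurj a b t 0 = 1 := by
    intro t
    have h := F_add_right h2 h3 hall hsurj hc T t 0 0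
    rw [add_zero] at h
    exact left_eq_mul.1 h
  rcases hall t with rfl | rfl | rfl
  · rw [zero_mul, l0, r0]
  · rw [one_mul]
  · have h5 := F_add_left h2 h3 hall hsurj hc T 1 (-1) u
    have h6 := F_add_right h2 h3 hall hsurj hc T 1 u (-u)
    rw [add_neg_cancel, l0] at h5
    rw [add_neg_cancel, r0] at h6
    rw [neg_one_mul]
    exact mul_left_cancel (h5.symm.trans h6)

/-- The lifts. -/
noncomputable def y (hsurj : Function.Surjective π) (s : ℕ) (u : K) : E :=
  if s = 0 then F hsurj 1 2 1 u else if s = 3 then F hsurj 5 1 1 u else if s = 4 then F hsurj 6 2 1 u else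
    if s = 7 then F hsurj 5 6 1 u else z hsurj s u

theorem y_short {s : ℕ} (hs : Short s) (u : K) : y hsurj s u = z hsurj s u := by
  rcases hs with rfl | rfl | rfl | rfl <;> rfl

theorem tri0 : Tri 1 2 0 := by constructor <;> decide
theorem tri3 : Tri 5 1 3 := by constructor <;> decide
theorem tri4 : Tri 6 2 4 := by constructor <;> decide
theorem tri7 : Tri 5 6 7 := by constructor <;> decide

theorem y_long {s : ℕ} (hs : Long s) : ∃ a b, Tri a b s ∧ ∀ u : K, y hsurj s u = F hsurj a b 1 u := by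
  rcases hs with rfl | rfl | rfl | rfl
  · exact ⟨1, 2, tri0, fun u => rfl⟩
  · exact ⟨5, 1, tri3, fun u => rfl⟩
  · exact ⟨6, 2, tri4, fun u => rfl⟩
  · exact ⟨5, 6, tri7, fun u => rfl⟩

theorem cases8 {s : ℕ} (hs : s < 8) : Long s ∨ Short s := by
  interval_cases s <;> decide

include h2 h3 in
theorem map_y {s : ℕ} (hs : s < 8) (u : K) : π (y hsurj s u) = chevB2.scGen K s u := by
  rcases cases8 hs with h | h
  · obtain ⟨a, b, T, hT⟩ := y_long hsurj h (K := K)
    rw [hT, map_F h2 h3 hsurj T, one_mul]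
  · rw [y_short hsurj h, map_z h2 hsurj h]

include h2 h3 hall hc in
theorem y_add {s : ℕ} (hs : s < 8) (t u : K) : y hsurj s t * y hsurj s u = y hsurj s (t + u) := by
  rcases cases8 hs with h | h
  · obtain ⟨a, b, T, hT⟩ := y_long hsurj h (K := K)
    rw [hT, hT, hT, ← F_add_right h2 h3 hall hsurj hc T]
  · rw [y_short hsurj h, y_short hsurj h, y_short hsurj h, z_add h2 hall hsurj hc h]

/-- A commutator of lifts of the two short roots of a triple: any choice of lifts. -/
theorem F_eq_y {a b s : ℕ} (T : Tri a b s) (hT : ∀ u : K, y hsurj s u = F hsurj a b 1 u) (t u : K)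
    (h2 : (2 : K) ≠ 0) (h3 : (3 : K) = 0) (hall : ∀ t : K, t = 0 ∨ t = 1 ∨ t = -1) (hc : π.ker ≤ Subgroup.center E) :
    F hsurj a b t u = y hsurj s (t * u) := by
  rw [F_eq h2 h3 hall hsurj hc T, hT]

include h2 h3 hall hc in
theorem y_inv {s : ℕ} (hs : s < 8) (t : K) : (y hsurj s t)⁻¹ = y hsurj s (-t) := by
  have h0 : y hsurj s (0 : K) = 1 := by
    have h := y_add h2 h3 hall hsurj hc hs 0 0
    rw [add_zero] at h
    exact mul_eq_left.1 h
  have h1 := y_add h2 h3 hall hsurj hc hs t (-t)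
  rw [add_neg_cancel, h0] at h1
  exact inv_eq_of_mul_eq_one_right h1

include h2 h3 hall hc in
/-- (R2) for orthogonal short roots. -/
theorem rel_ab {a b s : ℕ} (T : Tri a b s) (hT : ∀ u : K, y hsurj s u = F hsurj a b 1 u) :
    Rel2 chevB2 (y (K := K) hsurj) a b ∧ Rel2 chevB2 (y (K := K) hsurj) b a := by
  constructor
  · intro t u
    have h1 : (y hsurj a t)⁻¹ * y hsurj b u * y hsurj a t = y hsurj b u * F hsurj a b t u := by
      rw [y_short hsurj T.ha, y_short hsurj T.hb]
      unfold F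
      group
    rw [h1, F_eq_y hsurj T hT t u h2 h3 hall hc]
    congr 1
    show _ = wordF (y hsurj) ((chevB2.commTerms a b).map fun c => (c.1, (c.2.1 : K) * (-t) ^ c.2.2.1 * u ^ c.2.2.2))
    rw [T.t1, List.map_cons, List.map_nil, wordF_cons, wordF_nil, mul_one]
    congr 1
    show t * u = ((2 : ℤ) : K) * (-t) ^ 1 * u ^ 1
    push_cast
    linear_combination (t * u) * h3
  · intro t u
    have h1 : (y hsurj b t)⁻¹ * y hsurj a u * y hsurj b t = y hsurj a u * (F hsurj a b u t)⁻¹ := by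
      rw [y_short hsurj T.ha, y_short hsurj T.hb]
      unfold F
      group
    rw [h1, F_eq_y hsurj T hT u t h2 h3 hall hc]
    congr 1
    show _ = wordF (y hsurj) ((chevB2.commTerms b a).map fun c => (c.1, (c.2.1 : K) * (-t) ^ c.2.2.1 * u ^ c.2.2.2))
    rw [T.t2, List.map_cons, List.map_nil, wordF_cons, wordF_nil, mul_one, y_inv h2 h3 hall hsurj hc T.hs.lt]
    congr 1
    show -(u * t) = ((-2 : ℤ) : K) * (-t) ^ 1 * u ^ 1
    push_cast
    linear_combination -(t * u) * h3

variable (hperf : commutator (chevB2.SteinbergCover K) = ⊤)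

include h2 h3 hall hc hperf in
/-- The torus element acts on the lifts. -/
theorem exists_torus : ∃ g : E, ∀ q < 8, ∀ u : K, g * y hsurj q u * g⁻¹ = y hsurj q (sg K q * u) := by
  obtain ⟨h, H⟩ := exists_sg (K := K)
  obtain ⟨g, rfl⟩ := hsurj h
  have hz : ∀ {q : ℕ}, Short q → ∀ u : K, g * z hsurj q u * g⁻¹ = z hsurj q (-u) := by
    intro q hq u
    have h1 := LiftMore.conj_yy hsurj hc hperf (fun _ => (exists_sg (K := K)).choose) (fun _ => sg K) (s := q)
      (exists_sg (K := K)).choose_spec hq.lt u H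
    rw [sg_short hq, neg_one_mul] at h1
    exact h1
  refine ⟨g, fun q hq u => ?_⟩
  rcases cases8 hq with h | h
  · obtain ⟨a, b, T, hT⟩ := y_long hsurj h (K := K)
    rw [sg_long h, one_mul, hT]
    have h1 : g * F hsurj a b 1 u * g⁻¹ = F hsurj a b (-1) (-u) := by
      unfold F
      rw [← hz T.ha 1, ← hz T.hb u]
      group
    rw [h1, F_eq h2 h3 hall hsurj hc T]
    congr 1
    ring
  · rw [y_short hsurj h, y_short hsurj h, hz h, sg_short h, neg_one_mul]

include h2 h3 hc in
/-- (R2) for pairs without terms, one long and one short. -/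
theorem rel45 {s a : ℕ} (hs : Long s) (ha : Short a)
    (h : a ≠ s ∧ a ≠ chevB2.neg s ∧ chevB2.commTerms s a = [] ∧ chevB2.commTerms a s = []) :
    Rel2 chevB2 (y (K := K) hsurj) s a ∧ Rel2 chevB2 (y (K := K) hsurj) a s := by
  have hcomm : ∀ t u : K, y hsurj s t * y hsurj a u = y hsurj a u * y hsurj s t := fun t u =>
    comm45 h2 hsurj hc hs ha ⟨h.1, h.2.1, h.2.2.1⟩ (map_y h2 h3 hsurj hs.lt t) (map_y h2 h3 hsurj ha.lt u)
  exact ⟨rel2_of_nil h.2.2.1 hcomm, rel2_of_nil h.2.2.2 fun t u => (hcomm u t).symm⟩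

include h2 h3 hall hc in
/-- (R2) for two orthogonal short roots. -/
theorem relss {a b : ℕ} (ha : Short a) (hb : Short b) (h1 : b ≠ a) (h1' : b ≠ chevB2.neg a) :
    Rel2 chevB2 (y (K := K) hsurj) a b := by
  have r0 := rel_ab h2 h3 hall hsurj hc tri0 (fun u => rfl)
  have r3 := rel_ab h2 h3 hall hsurj hc tri3 (fun u => rfl)
  have r4 := rel_ab h2 h3 hall hsurj hc tri4 (fun u => rfl)
  have r7 := rel_ab h2 h3 hall hsurj hc tri7 (fun u => rfl)
  rcases ha with rfl | rfl | rfl | rfl <;> rcases hb with rfl | rfl | rfl | rfl <;>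
    first
      | exact absurd rfl h1
      | exact absurd (by decide) h1'
      | exact r0.1
      | exact r0.2
      | exact r3.1
      | exact r3.2
      | exact r4.1
      | exact r4.2
      | exact r7.1
      | exact r7.2

/-- `r` long, `s` short, `a = r + s`, `b = r + 2s`. -/
structure Q (r s a b : ℕ) (x x' : ℤ) : Prop where
  hr : Long r
  hs : Short s
  ha : Short a
  hb : Long b
  rs : s ≠ r ∧ s ≠ chevB2.neg r ∧ r ≠ s ∧ r ≠ chevB2.neg s
  sa : a ≠ s ∧ a ≠ chevB2.neg s
  ba : a ≠ b ∧ a ≠ chevB2.neg b ∧ chevB2.commTerms b a = [] ∧ chevB2.commTerms a b = []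
  bs : s ≠ b ∧ s ≠ chevB2.neg b ∧ chevB2.commTerms b s = [] ∧ chevB2.commTerms s b = []
  t1 : ∀ c ∈ chevB2.commTerms r s, c.1 = a ∨ c.1 = b
  t2 : ∀ c ∈ chevB2.commTerms s r, c.1 = a ∨ c.1 = b
  t3 : ∀ c ∈ chevB2.commTerms s a, c.1 = a ∨ c.1 = b
  pa : 0 < x * chevB2.cartan 0 a + x' * chevB2.cartan 1 a
  pb : 0 < x * chevB2.cartan 0 b + x' * chevB2.cartan 1 b

include h2 h3 hall hc hperf in
/-- (R2) for a long and a short root at 135 degrees. -/
theorem rel135 {r s a b : ℕ} {x x' : ℤ} (W : Q r s a b x x') :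
    Rel2 chevB2 (y (K := K) hsurj) r s ∧ Rel2 chevB2 (y (K := K) hsurj) s r := by
  obtain ⟨m0, T⟩ := St.TabAll.exists_tab SmallB2.inList
  have hf : Fun chevB2 (lin chevB2 (fn x x')) := T.fun_lin (fn x x')
  have L := setup (y := y (K := K) hsurj) SmallB2.inList hc (fun r t hr => map_y h2 h3 hsurj hr t)
    (fun r hr t u => y_add h2 h3 hall hsurj hc hr t u)
  obtain ⟨g, hg⟩ := exists_torus h2 h3 hall hsurj hc hperf
  have hpos : ∀ q < chevB2.nroots, (q = a ∨ q = b) → 0 < lin chevB2 (fn x x') q := by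
    rintro q - (rfl | rfl)
    · rw [lin_fn]; exact W.pa
    · rw [lin_fn]; exact W.pb
  have hcl : Closed chevB2 (fun q => q = a ∨ q = b) := by
    rintro q q' - - (rfl | rfl) (rfl | rfl) hne c hcm
    · exact absurd rfl hne
    · rw [W.ba.2.2.2] at hcm; exact absurd hcm List.not_mem_nil
    · rw [W.ba.2.2.1] at hcm; exact absurd hcm List.not_mem_nil
    · exact absurd rfl hne
  have hrel : ∀ r s, r < chevB2.nroots → s < chevB2.nroots → s ≠ r → (r = a ∨ r = b) → (s = a ∨ s = b) →
      Rel2 chevB2 (y (K := K) hsurj) r s := by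
    rintro q q' - - hne (rfl | rfl) (rfl | rfl)
    · exact absurd rfl hne
    · exact (rel45 h2 h3 hsurj hc W.hb W.ha W.ba).2
    · exact (rel45 h2 h3 hsurj hc W.hb W.ha W.ba).1
    · exact absurd rfl hne
  have h1 : Rel2 chevB2 (y (K := K) hsurj) r s := by
    refine L.rel2_step hf (S := fun q => q = a ∨ q = b) hpos hcl hrel W.hr.lt W.hs.lt W.rs.1 W.rs.2.1 W.t1 ?_ ?_ ?_
    · rintro q - (rfl | rfl) c hcm
      · exact W.t3 c hcm
      · rw [W.bs.2.2.2] at hcm; exact absurd hcm List.not_mem_nil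
    · rintro q - (rfl | rfl)
      · exact relss h2 h3 hall hsurj hc W.hs W.ha W.sa.1 W.sa.2
      · exact (rel45 h2 h3 hsurj hc W.hb W.hs W.bs).2
    · left
      exact ⟨g, sg K, hg, sg_long W.hr, by rw [sg_short W.hs]; exact m1_ne h2⟩
  exact ⟨h1, L.rel2_symm hf (S := fun q => q = a ∨ q = b) hpos hcl hrel W.hs.lt W.hr.lt W.rs.2.2.1 W.rs.2.2.2
    W.t2 W.t1 h1⟩

include h2 h3 hall hc hperf in
/-- Orthogonal long roots. -/
theorem relll {s₂ b a s₁ : ℕ} {x x' : ℤ} (W : Q s₂ b a s₁ x x') {C : ℤ} (hC : C = 2 ∨ C = -2)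
    (h1 : chevB2.commTerms a b = [(s₁, C, 1, 1)]) (hab : b ≠ a ∧ b ≠ chevB2.neg a)
    (h4 : a ≠ s₂ ∧ a ≠ chevB2.neg s₂ ∧ chevB2.commTerms s₂ a = [])
    (h5 : chevB2.commTerms s₂ b = [(a, (chevB2.commTerms s₂ b).head!.2.1, 1, 1),
      (s₁, (chevB2.commTerms s₂ b).getLast!.2.1, 1, 2)])
    (h6 : chevB2.commTerms s₁ s₂ = [] ∧ chevB2.commTerms s₂ s₁ = []) :
    Rel2 chevB2 (y (K := K) hsurj) s₁ s₂ ∧ Rel2 chevB2 (y (K := K) hsurj) s₂ s₁ := by
  have hcomm : ∀ t v : K, y hsurj s₁ t * y hsurj s₂ v = y hsurj s₂ v * y hsurj s₁ t := by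
    intro t v
    obtain ⟨u, hu⟩ : ∃ u : K, (C : K) * (-1) ^ 1 * u ^ 1 = t := by
      rcases hC with rfl | rfl
      · exact ⟨t, by push_cast; linear_combination -t * h3⟩
      · exact ⟨-t, by push_cast; linear_combination -t * h3⟩
    have e1 : (y hsurj a 1)⁻¹ * y hsurj b u * y hsurj a 1 = y hsurj b u * y hsurj s₁ t := by
      have h := relss h2 h3 hall hsurj hc W.ha W.hs hab.1 hab.2 1 u
      rw [h]
      congr 1
      show wordF (y hsurj) ((chevB2.commTerms a b).map fun c => (c.1, (c.2.1 : K) * (-1) ^ c.2.2.1 * u ^ c.2.2.2)) = _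
      rw [h1, List.map_cons, List.map_nil, wordF_cons, wordF_nil, mul_one]
      show y hsurj s₁ ((C : K) * (-1) ^ 1 * u ^ 1) = _
      rw [hu]
    have e2 : (y hsurj s₂ v)⁻¹ * y hsurj a 1 * y hsurj s₂ v = y hsurj a 1 := by
      have h := comm45 h2 hsurj hc W.hr W.ha h4 (map_y h2 h3 hsurj W.hr.lt v) (map_y h2 h3 hsurj W.ha.lt (1 : K))
      rw [mul_assoc, ← h, inv_mul_cancel_left]
    obtain ⟨α, β, e3⟩ : ∃ α β : K, (y hsurj s₂ v)⁻¹ * y hsurj b u * y hsurj s₂ v =
        y hsurj b u * (y hsurj a α * y hsurj s₁ β) := by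
      have h := (rel135 h2 h3 hall hsurj hc hperf W).1 v u
      have h' : wordF (y (K := K) hsurj) (chevB2.commWord K s₂ b v u) = wordF (y hsurj) ((chevB2.commTerms s₂ b).map
        fun c => (c.1, (c.2.1 : K) * (-v) ^ c.2.2.1 * u ^ c.2.2.2)) := rfl
      rw [h', h5, List.map_cons, List.map_cons, List.map_nil, wordF_cons, wordF_cons, wordF_nil, mul_one] at h
      exact ⟨_, _, h⟩
    set X := y hsurj a (1 : K) with hX
    set U := y hsurj b u with hU
    set g := y hsurj s₂ v with hg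
    set Z := y hsurj a α * y hsurj s₁ β with hZ
    have hs1a : ∀ t v : K, y hsurj s₁ t * y hsurj a v = y hsurj a v * y hsurj s₁ t := fun t v =>
      comm45 h2 hsurj hc W.hb W.ha ⟨W.ba.1, W.ba.2.1, W.ba.2.2.1⟩ (map_y h2 h3 hsurj W.hb.lt t)
        (map_y h2 h3 hsurj W.ha.lt v)
    have hab' : ∀ q < 8, ∀ t v : K, y hsurj q t * y hsurj q v = y hsurj q v * y hsurj q t := by
      intro q hq t v
      rw [y_add h2 h3 hall hsurj hc hq, y_add h2 h3 hall hsurj hc hq, add_comm]
    have zX : Z * X = X * Z := by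
      rw [hZ, hX, mul_assoc, hs1a, ← mul_assoc, hab' a W.ha.lt, mul_assoc]
    have zs : Z * y hsurj s₁ t = y hsurj s₁ t * Z := by
      rw [hZ, mul_assoc, hab' s₁ W.hb.lt, ← mul_assoc, ← hs1a, mul_assoc]
    have e4 : y hsurj s₁ t = U⁻¹ * X⁻¹ * U * X := by
      calc y hsurj s₁ t = U⁻¹ * (U * y hsurj s₁ t) := by group
        _ = U⁻¹ * X⁻¹ * U * X := by rw [← e1]; group
    have e5 : g⁻¹ * y hsurj s₁ t * g = y hsurj s₁ t := by
      calc g⁻¹ * y hsurj s₁ t * g = (g⁻¹ * U * g)⁻¹ * (g⁻¹ * X * g)⁻¹ * (g⁻¹ * U * g) * (g⁻¹ * X * g) := by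
            rw [e4]; group
        _ = (U * Z)⁻¹ * X⁻¹ * (U * Z) * X := by rw [e2, e3]
        _ = Z⁻¹ * (U⁻¹ * X⁻¹ * U * X) * Z := by
            have : (U * Z)⁻¹ * X⁻¹ * (U * Z) * X = Z⁻¹ * U⁻¹ * X⁻¹ * U * (Z * X) := by group
            rw [this, zX]; group
        _ = y hsurj s₁ t := by
            rw [← e4, mul_assoc, ← zs, inv_mul_cancel_left]
    calc y hsurj s₁ t * g = g * (g⁻¹ * y hsurj s₁ t * g) := by group
      _ = g * y hsurj s₁ t := by rw [e5]
  exact ⟨rel2_of_nil h6.1 hcomm, rel2_of_nil h6.2 fun t u => (hcomm u t).symm⟩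

theorem q05 : Q 0 5 1 3 (-1) (-2) := by constructor <;> decide
theorem q06 : Q 0 6 2 4 (-1) 0 := by constructor <;> decide
theorem q32 : Q 3 2 1 0 (-1) (-2) := by constructor <;> decide
theorem q36 : Q 3 6 5 7 1 0 := by constructor <;> decide
theorem q41 : Q 4 1 2 0 (-1) 0 := by constructor <;> decide
theorem q45 : Q 4 5 6 7 1 2 := by constructor <;> decide
theorem q71 : Q 7 1 5 3 1 0 := by constructor <;> decide
theorem q72 : Q 7 2 6 4 1 2 := by constructor <;> decide

include h2 h3 hall hsurj hc in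
/-- **Central extensions of the group of type `B₂` over the field of three elements split.** -/
theorem exists_section : ∃ τ : chevB2.SteinbergCover K →* E, π.comp τ = MonoidHom.id _ := by
  have hperf : commutator (chevB2.SteinbergCover K) = ⊤ :=
    Cfsg.Agent.S2395.result chevB2 SmallB2.inList fun _ => ⟨-1, neg_ne_zero.2 one_ne_zero, m1_ne h2⟩
  refine LiftMain.exists_section SmallB2.inList (fun r t hr => map_y h2 h3 hsurj hr t)
    (fun r hr t u => y_add h2 h3 hall hsurj hc hr t u) ?_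
  intro r s hr hs hsr hsn
  have r0 := relll h2 h3 hall hsurj hc hperf q05 (C := -2) (Or.inr rfl) (by decide) (by decide) (by decide)
    (by decide) (by decide)
  have r1 := relll h2 h3 hall hsurj hc hperf q06 (C := -2) (Or.inr rfl) (by decide) (by decide) (by decide)
    (by decide) (by decide)
  have r2 := relll h2 h3 hall hsurj hc hperf q71 (C := 2) (Or.inl rfl) (by decide) (by decide) (by decide)
    (by decide) (by decide)
  have r3 := relll h2 h3 hall hsurj hc hperf q72 (C := 2) (Or.inl rfl) (by decide) (by decide) (by decide)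
    (by decide) (by decide)
  have p0 := rel135 h2 h3 hall hsurj hc hperf q05
  have p1 := rel135 h2 h3 hall hsurj hc hperf q06
  have p2 := rel135 h2 h3 hall hsurj hc hperf q32
  have p3 := rel135 h2 h3 hall hsurj hc hperf q36
  have p4 := rel135 h2 h3 hall hsurj hc hperf q41
  have p5 := rel135 h2 h3 hall hsurj hc hperf q45
  have p6 := rel135 h2 h3 hall hsurj hc hperf q71
  have p7 := rel135 h2 h3 hall hsurj hc hperf q72
  rcases cases8 hr with hr' | hr' <;> rcases cases8 hs with hs' | hs'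
  · rcases hr' with rfl | rfl | rfl | rfl <;> rcases hs' with rfl | rfl | rfl | rfl <;>
    first
      | exact absurd rfl hsr
      | exact absurd (by decide) hsn
      | exact r0.1
      | exact r0.2
      | exact r1.1
      | exact r1.2
      | exact r2.1
      | exact r2.2
      | exact r3.1
      | exact r3.2
  · rcases hr' with rfl | rfl | rfl | rfl <;> rcases hs' with rfl | rfl | rfl | rfl <;>
    first
      | exact p0.1
      | exact p1.1
      | exact p2.1
      | exact p3.1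
      | exact p4.1
      | exact p5.1
      | exact p6.1
      | exact p7.1
      | exact (rel45 h2 h3 hsurj hc (by decide) (by decide) (by decide)).1
  · rcases hr' with rfl | rfl | rfl | rfl <;> rcases hs' with rfl | rfl | rfl | rfl <;>
    first
      | exact p0.2
      | exact p1.2
      | exact p2.2
      | exact p3.2
      | exact p4.2
      | exact p5.2
      | exact p6.2
      | exact p7.2
      | exact (rel45 h2 h3 hsurj hc (by decide) (by decide) (by decide)).2
  · exact relss h2 h3 hall hsurj hc hr' hs' hsr hsn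

end

end Cfsg.Agent.H134.B2Three
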