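import Mathlib.GroupTheory.Perm.Cycle.Concrete
import Mathlib.GroupTheory.Perm.Cycle.Type
import Mathlib.GroupTheory.SpecificGroups.Alternating

/-!
# Bertram's theorem: every even permutation of `n` points is a product of two `l`-cycles,
for every `l` with `3 n / 4 ≤ l ≤ n`.
-/

set_option autoImplicit false

namespace Cfsg.Agent.H134.Bert

open Equiv Equiv.Perm

variable {α : Type*} [DecidableEq α]

/-- `u` is one cycle on the (nonempty) set `X`, and trivial outside `X`. -/
def Cyc (u : Perm α) (X : Finset α) : Prop :=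
  ∃ l : List α, l.Nodup ∧ l ≠ [] ∧ l.toFinset = X ∧ l.formPerm = u

theorem Cyc.nonempty {u : Perm α} {X : Finset α} (h : Cyc u X) : X.Nonempty := by
  obtain ⟨l, -, hne, rfl, -⟩ := h
  obtain ⟨x, t, rfl⟩ := List.exists_cons_of_ne_nil hne
  exact ⟨x, by simp⟩

theorem cyc_one (x : α) : Cyc (1 : Perm α) {x} :=
  ⟨[x], by simp, by simp, by simp, by simp⟩

theorem Cyc.apply_mem {u : Perm α} {X : Finset α} (h : Cyc u X) {x : α} (hx : x ∈ X) :
    u x ∈ X := by
  obtain ⟨l, -, -, rfl, rfl⟩ := h
  rw [List.mem_toFinset] at hx ⊢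
  exact List.formPerm_apply_mem_of_mem hx

theorem Cyc.apply_notMem {u : Perm α} {X : Finset α} (h : Cyc u X) {x : α} (hx : x ∉ X) :
    u x = x := by
  obtain ⟨l, -, -, rfl, rfl⟩ := h
  rw [List.mem_toFinset] at hx
  exact List.formPerm_apply_of_notMem hx

theorem Cyc.inv {u : Perm α} {X : Finset α} (h : Cyc u X) : Cyc u⁻¹ X := by
  obtain ⟨l, hn, hne, rfl, rfl⟩ := h
  exact ⟨l.reverse, by simpa using hn, by simpa using hne, by simp, List.formPerm_reverse l⟩

/-- The cycle can be written starting at any of its points. -/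
theorem Cyc.head {u : Perm α} {X : Finset α} (h : Cyc u X) {x : α} (hx : x ∈ X) :
    ∃ l : List α, (x :: l).Nodup ∧ (x :: l).toFinset = X ∧ (x :: l).formPerm = u := by
  obtain ⟨l, hn, -, rfl, rfl⟩ := h
  rw [List.mem_toFinset] at hx
  obtain ⟨s, t, rfl⟩ := List.append_of_mem hx
  have hr : (s ++ x :: t) ~r (x :: t ++ s) := List.isRotated_append
  refine ⟨t ++ s, hr.nodup_iff.1 hn, ?_, (List.formPerm_eq_of_isRotated hn hr).symm⟩
  ext y
  simp only [List.mem_toFinset]
  exact (hr.perm.mem_iff (a := y)).symm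

/-- The cycle can be written ending at any of its points. -/
theorem Cyc.last {u : Perm α} {X : Finset α} (h : Cyc u X) {x : α} (hx : x ∈ X) :
    ∃ l : List α, (l ++ [x]).Nodup ∧ (l ++ [x]).toFinset = X ∧ (l ++ [x]).formPerm = u := by
  obtain ⟨l, hn, h2, h3⟩ := h.head hx
  have hr : (x :: l) ~r (l ++ [x]) := by
    have := List.isRotated_append (l := [x]) (l' := l)
    simpa using this
  refine ⟨l, hr.nodup_iff.1 hn, ?_, ?_⟩
  · rw [← h2]
    ext y
    simp only [List.mem_toFinset]
    exact (hr.perm.mem_iff (a := y)).symm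
  · rw [← h3]
    exact (List.formPerm_eq_of_isRotated hn hr).symm

theorem formPerm_append_cons : ∀ (s : List α) (x : α) (t : List α),
    (s ++ x :: t).formPerm = (s ++ [x]).formPerm * (x :: t).formPerm
  | [], x, t => by simp
  | [a], x, t => by simp [List.formPerm_cons_cons]
  | a :: b :: s, x, t => by
    have := formPerm_append_cons (b :: s) x t
    simp only [List.cons_append, List.formPerm_cons_cons, mul_assoc] at this ⊢
    rw [this]

/-- Joining two disjoint cycles by a transposition. -/
theorem Cyc.join {u u' : Perm α} {X X' : Finset α} (h : Cyc u X) (h' : Cyc u' X')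
    (hd : Disjoint X X') {x x' : α} (hx : x ∈ X) (hx' : x' ∈ X') :
    Cyc (u * swap x x' * u') (X ∪ X') := by
  obtain ⟨l, hn, rfl, rfl⟩ := h.last hx
  obtain ⟨l', hn', rfl, rfl⟩ := h'.head hx'
  refine ⟨(l ++ [x]) ++ (x' :: l'), ?_, by simp, List.toFinset_append, ?_⟩
  · rw [List.nodup_append']
    refine ⟨hn, hn', ?_⟩
    rwa [← List.disjoint_toFinset_iff_disjoint]
  · rw [List.append_assoc, List.singleton_append, formPerm_append_cons, List.formPerm_cons_cons,
      mul_assoc]

theorem Cyc.join_right {u u' : Perm α} {X X' : Finset α} (h : Cyc u X) (h' : Cyc u' X')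
    (hd : Disjoint X X') {x x' : α} (hx : x ∈ X) (hx' : x' ∈ X') :
    Cyc (u * u' * swap x x') (X ∪ X') := by
  have h1 := h.join h' hd hx (h'.apply_mem hx')
  have h2 : u' x = x := h'.apply_notMem (Finset.disjoint_left.1 hd hx)
  have h3 : u' * swap x x' = swap x (u' x') * u' := by
    have := Equiv.mul_swap_eq_swap_mul u' x x'
    rw [h2] at this
    exact this
  rwa [mul_assoc, h3, ← mul_assoc]

theorem Cyc.join_left {u u' : Perm α} {X X' : Finset α} (h : Cyc u X) (h' : Cyc u' X')
    (hd : Disjoint X X') {x x' : α} (hx : x ∈ X) (hx' : x' ∈ X') :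
    Cyc (swap x x' * (u * u')) (X ∪ X') := by
  have h1 := h.join h' hd (x := u⁻¹ x) (h.inv.apply_mem hx) hx'
  have h2 : u⁻¹ x' = x' := h.inv.apply_notMem (Finset.disjoint_right.1 hd hx')
  have h3 : swap x x' * u = u * swap (u⁻¹ x) x' := by
    have := Equiv.swap_mul_eq_mul_swap u x x'
    rw [h2] at this
    exact this
  rwa [← mul_assoc, h3]

/-- The base factorisation of one cycle. -/
theorem Cyc.split {u : Perm α} {Z : Finset α} (h : Cyc u Z) {i : ℕ} (h1 : 1 ≤ i)
    (h2 : i ≤ Z.card) : ∃ (a b : Perm α) (X Y : Finset α), Cyc a X ∧ Cyc b Y ∧ u = a * b ∧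
      X.card = i ∧ X.card + Y.card = Z.card + 1 ∧ (∃ x, x ∈ X ∧ x ∈ Y) ∧ X ⊆ Z ∧ Y ⊆ Z := by
  obtain ⟨l, hn, -, rfl, rfl⟩ := h
  rw [List.toFinset_card_of_nodup hn] at h2
  have hi : i - 1 < l.length := by omega
  have hl : l = l.take (i - 1) ++ l[i - 1] :: l.drop i := by
    have := List.take_append_drop (i - 1) l
    conv_lhs => rw [← this]
    congr 1
    rw [List.drop_eq_getElem_cons hi]
    congr 2
    omega
  set s := l.take (i - 1) with hs
  set x := l[i - 1] with hx
  set t := l.drop i with ht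
  have hsl : s.length = i - 1 := by rw [hs, List.length_take]; omega
  have htl : t.length = l.length - i := by rw [ht, List.length_drop]
  have hn0 : (s ++ x :: t).Nodup := hl ▸ hn
  have hn1 : (s ++ [x]).Nodup := by
    refine List.Nodup.sublist ?_ hn0
    exact List.Sublist.append_left (by simp) _
  have hn2 : (x :: t).Nodup := List.Nodup.sublist (List.sublist_append_right _ _) hn0
  refine ⟨(s ++ [x]).formPerm, (x :: t).formPerm, (s ++ [x]).toFinset, (x :: t).toFinset,
    ⟨_, hn1, by simp, rfl, rfl⟩, ⟨_, hn2, by simp, rfl, rfl⟩, ?_, ?_, ?_, ⟨x, by simp, by simp⟩,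
    ?_, ?_⟩
  · rw [hl]
    exact formPerm_append_cons s x t
  · rw [List.toFinset_card_of_nodup hn1, List.length_append, hsl]
    simp
    omega
  · rw [List.toFinset_card_of_nodup hn1, List.toFinset_card_of_nodup hn2,
      List.toFinset_card_of_nodup hn, List.length_append, hsl]
    simp
    omega
  · intro y hy
    rw [hl]
    simp at hy ⊢
    tauto
  · intro y hy
    rw [hl]
    simp at hy ⊢
    tauto

theorem isCycle_cyc [Fintype α] {u : Perm α} (h : u.IsCycle) : Cyc u u.support := by
  obtain ⟨x, hx, -⟩ := id h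
  refine ⟨u.toList x, nodup_toList u x, ?_, ?_, ?_⟩
  · intro h0
    rw [toList_eq_nil_iff] at h0
    exact h0 (mem_support.2 hx)
  · ext y
    rw [List.mem_toFinset, mem_toList_iff]
    constructor
    · rintro ⟨h1, h2⟩
      rw [mem_support] at h2 ⊢
      exact (h1.apply_eq_self_iff).not.1 h2
    · intro hy
      exact ⟨h.sameCycle hx (mem_support.1 hy), mem_support.2 hx⟩
  · rw [formPerm_toList]
    exact h.cycleOf_eq hx

/-- Base step: `g` with `s` moved points and `c` nontrivial cycles is a product of two cycles of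
lengths `i` and `s + c - i`, for every `i` between `c` and `s`. -/
theorem base [Fintype α] (g : Perm α) : g ≠ 1 → ∀ i, Multiset.card g.cycleType ≤ i →
    i ≤ g.support.card → ∃ (u v : Perm α) (X Y : Finset α), Cyc u X ∧ Cyc v Y ∧ g = u * v ∧
      X.card = i ∧ X.card + Y.card = g.support.card + Multiset.card g.cycleType ∧
      (∃ x, x ∈ X ∧ x ∈ Y) ∧ X ⊆ g.support ∧ Y ⊆ g.support := by
  induction g using cycle_induction_on with
  | base_one => intro h; exact absurd rfl h
  | base_cycles σ hσ =>
    intro _ i h1 h2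
    rw [card_cycleType_eq_one.2 hσ] at h1 ⊢
    exact (isCycle_cyc hσ).split h1 h2
  | induction_disjoint σ τ hd hσ hPσ hPτ =>
    intro _ i h1 h2
    by_cases hτ : τ = 1
    · subst hτ
      rw [mul_one] at h1 h2 ⊢
      exact hPσ hσ.ne_one i h1 h2
    · rw [hd.cycleType_mul, Multiset.card_add, card_cycleType_eq_one.2 hσ] at h1 ⊢
      rw [hd.card_support_mul] at h2 ⊢
      have hcτ : Multiset.card τ.cycleType ≤ τ.support.card := by
        rw [← sum_cycleType]
        have : ∀ n ∈ τ.cycleType, 1 ≤ n := fun n hn => (one_lt_of_mem_cycleType hn).le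
        simpa using Multiset.card_nsmul_le_sum this
      have hσ2 : 2 ≤ σ.support.card := hσ.two_le_card_support
      obtain ⟨i1, i2, hi, a1, a2, a3, a4⟩ : ∃ i1 i2, i = i1 + i2 ∧ 1 ≤ i1 ∧ i1 ≤ σ.support.card ∧
          Multiset.card τ.cycleType ≤ i2 ∧ i2 ≤ τ.support.card := by
        by_cases hc : i ≤ 1 + τ.support.card
        · exact ⟨1, i - 1, by omega, le_rfl, by omega, by omega, by omega⟩
        · exact ⟨i - τ.support.card, τ.support.card, by omega, by omega, by omega, hcτ, le_rfl⟩
      obtain ⟨u1, v1, X1, Y1, hu1, hv1, e1, b1, b2, ⟨x1, hx1, hy1⟩, c1, c2⟩ :=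
        (isCycle_cyc hσ).split a1 a2
      obtain ⟨u2, v2, X2, Y2, hu2, hv2, e2, d1, d2, ⟨x2, hx2, hy2⟩, f1, f2⟩ :=
        hPτ hτ i2 a3 a4
      have hS : _root_.Disjoint σ.support τ.support := (disjoint_iff_disjoint_support).1 hd
      have hXX : _root_.Disjoint X1 X2 := hS.mono c1 f1
      have hYY : _root_.Disjoint Y1 Y2 := hS.mono c2 f2
      have hYX : _root_.Disjoint Y1 X2 := hS.mono c2 f1
      have hcomm : v1 * u2 = u2 * v1 := by
        refine (Disjoint.commute ?_).eq
        intro z
        by_cases hz : z ∈ Y1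
        · exact Or.inr (hu2.apply_notMem (Finset.disjoint_left.1 hYX hz))
        · exact Or.inl (hv1.apply_notMem hz)
      refine ⟨_, _, _, _, hu1.join_right hu2 hXX hx1 hx2, hv1.join_left hv2 hYY hy1 hy2, ?_, ?_,
        ?_, ⟨x1, Finset.mem_union_left _ hx1, Finset.mem_union_left _ hy1⟩, ?_, ?_⟩
      · have hs : swap x1 x2 * swap x1 x2 = 1 := swap_mul_self x1 x2
        calc σ * τ = u1 * v1 * (u2 * v2) := by rw [e1, e2]
          _ = u1 * (v1 * u2) * v2 := by group
          _ = u1 * (u2 * v1) * v2 := by rw [hcomm]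
          _ = u1 * u2 * 1 * (v1 * v2) := by group
          _ = u1 * u2 * (swap x1 x2 * swap x1 x2) * (v1 * v2) := by rw [hs]
          _ = _ := by simp only [mul_assoc]
      · rw [Finset.card_union_of_disjoint hXX]; omega
      · rw [Finset.card_union_of_disjoint hXX, Finset.card_union_of_disjoint hYY]; omega
      · intro z hz
        rw [hd.support_mul]
        rcases Finset.mem_union.1 hz with hz | hz
        · exact Finset.mem_union_left _ (c1 hz)
        · exact Finset.mem_union_right _ (f1 hz)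
      · intro z hz
        rw [hd.support_mul]
        rcases Finset.mem_union.1 hz with hz | hz
        · exact Finset.mem_union_left _ (c2 hz)
        · exact Finset.mem_union_right _ (f2 hz)

/-- `g` is a product of two cycles of length `l`. -/
def Two (g : Perm α) (l : ℕ) : Prop :=
  ∃ (u v : Perm α) (X Y : Finset α), Cyc u X ∧ Cyc v Y ∧ g = u * v ∧ X.card = l ∧ Y.card = l

theorem Two.succ [Fintype α] {g : Perm α} {l : ℕ} (h : Two g l) (hl : l < Fintype.card α) :
    Two g (l + 1) := by
  obtain ⟨u, v, X, Y, hu, hv, e, hX, hY⟩ := h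
  obtain ⟨a, b, ha, hb, hab⟩ : ∃ a b, a ∈ X ∧ b ∉ X ∧ ((a ∈ Y ∧ b ∉ Y) ∨ (a ∉ Y ∧ b ∈ Y)) := by
    by_cases hXY : X = Y
    · subst hXY
      obtain ⟨a, ha⟩ := hu.nonempty
      obtain ⟨b, hb⟩ : ∃ b, b ∉ X := by
        by_contra hc
        push Not at hc
        have : X = Finset.univ := Finset.eq_univ_iff_forall.2 hc
        rw [this, Finset.card_univ] at hX
        omega
      exact ⟨a, b, ha, hb, Or.inl ⟨ha, hb⟩⟩
    · have h1 : ¬ X ⊆ Y := fun h => hXY (Finset.eq_of_subset_of_card_le h (by omega))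
      have h2 : ¬ Y ⊆ X := fun h => hXY (Finset.eq_of_subset_of_card_le h (by omega)).symm
      obtain ⟨a, ha, ha'⟩ := Finset.not_subset.1 h1
      obtain ⟨b, hb, hb'⟩ := Finset.not_subset.1 h2
      exact ⟨a, b, ha, hb', Or.inr ⟨ha', hb⟩⟩
  have hU : Cyc (u * swap a b) (X ∪ {b}) := by
    have := hu.join (cyc_one b) (Finset.disjoint_singleton_right.2 hb) ha (Finset.mem_singleton_self b)
    simpa using this
  have key : ∀ (c d : α), c ∈ Y → d ∉ Y → Cyc (swap c d * v) (Y ∪ {d}) := by
    intro c d hc hd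
    have := hv.join_left (cyc_one d) (Finset.disjoint_singleton_right.2 hd) hc
      (Finset.mem_singleton_self d)
    simpa using this
  have hg : g = u * swap a b * (swap a b * v) := by
    have hs : swap a b * swap a b = 1 := swap_mul_self a b
    calc g = u * 1 * v := by rw [e, mul_one]
      _ = u * (swap a b * swap a b) * v := by rw [hs]
      _ = _ := by simp only [mul_assoc]
  have hXc : (X ∪ {b}).card = l + 1 := by
    rw [Finset.card_union_of_disjoint (Finset.disjoint_singleton_right.2 hb), hX,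
      Finset.card_singleton]
  rcases hab with ⟨h1, h2⟩ | ⟨h1, h2⟩
  · refine ⟨_, _, _, _, hU, key a b h1 h2, hg, hXc, ?_⟩
    rw [Finset.card_union_of_disjoint (Finset.disjoint_singleton_right.2 h2), hY,
      Finset.card_singleton]
  · refine ⟨_, _, _, Y ∪ {a}, hU, ?_, hg, hXc, ?_⟩
    · rw [swap_comm]
      exact key b a h2 h1
    · rw [Finset.card_union_of_disjoint (Finset.disjoint_singleton_right.2 h1), hY,
        Finset.card_singleton]

theorem Two.mono [Fintype α] {g : Perm α} {l m : ℕ} (h : Two g l) (hlm : l ≤ m)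
    (hm : m ≤ Fintype.card α) : Two g m := by
  induction m, hlm using Nat.le_induction with
  | base => exact h
  | succ m _ ih => exact (ih (by omega)).succ (by omega)

theorem card_cycleType_le [Fintype α] (g : Perm α) :
    2 * Multiset.card g.cycleType ≤ g.support.card := by
  rw [← sum_cycleType, mul_comm]
  have : ∀ n ∈ g.cycleType, 2 ≤ n := fun n hn => two_le_of_mem_cycleType hn
  simpa using Multiset.card_nsmul_le_sum this

/-- The exact form: `g` with `s` moved points and `c` nontrivial cycles is a product of two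
`(s + c) / 2`-cycles. -/
theorem bertram_exact [Fintype α] (g : Perm α) (hg : sign g = 1) (hg1 : g ≠ 1) :
    ∃ r, 2 * r = g.support.card + Multiset.card g.cycleType ∧ 1 ≤ r ∧ Two g r := by
  have hc := card_cycleType_le g
  rw [sign_of_cycleType, sum_cycleType] at hg
  have hev : Even (g.support.card + Multiset.card g.cycleType) := by
    by_contra hne
    rw [Nat.not_even_iff_odd] at hne
    rw [hne.neg_one_pow] at hg
    exact absurd hg (by decide)
  obtain ⟨r, hr⟩ := hev
  have hc0 : 0 < Multiset.card g.cycleType := by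
    rw [Multiset.card_pos]
    intro h0
    exact hg1 (cycleType_eq_zero.1 h0)
  obtain ⟨u, v, X, Y, hu, hv, e, a1, a2, -, -, -⟩ := base g hg1 r (by omega) (by omega)
  exact ⟨r, by omega, by omega, u, v, X, Y, hu, hv, e, a1, by omega⟩

/-- **Bertram's theorem** (sufficiency, sharp form). -/
theorem bertram' [Fintype α] (g : Perm α) (hg : sign g = 1) {l : ℕ} (h1 : 1 ≤ l)
    (h2 : (Fintype.card α + Fintype.card α / 2) / 2 ≤ l) (h3 : l ≤ Fintype.card α) :
    Two g l := by
  by_cases hg1 : g = 1
  · subst hg1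
    have : Nonempty α := Fintype.card_pos_iff.1 (by omega)
    obtain ⟨x⟩ := this
    have h0 : Two (1 : Perm α) 1 :=
      ⟨1, 1, {x}, {x}, cyc_one x, cyc_one x, by simp, by simp, by simp⟩
    exact h0.mono h1 h3
  · have hc := card_cycleType_le g
    have hs : g.support.card ≤ Fintype.card α := Finset.card_le_univ _
    obtain ⟨r, hr, -, h⟩ := bertram_exact g hg hg1
    exact h.mono (by omega) h3

/-- **Bertram's theorem** (sufficiency). -/
theorem bertram [Fintype α] (g : Perm α) (hg : sign g = 1) {l : ℕ} (h1 : 1 ≤ l)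
    (h2 : 3 * Fintype.card α ≤ 4 * l) (h3 : l ≤ Fintype.card α) : Two g l :=
  bertram' g hg h1 (by omega) h3

theorem Cyc.cycleType [Fintype α] {u : Perm α} {X : Finset α} (h : Cyc u X)
    (h2 : 2 ≤ X.card) : u.cycleType = {X.card} := by
  obtain ⟨l, hn, hne, rfl, rfl⟩ := h
  rw [List.toFinset_card_of_nodup hn] at h2 ⊢
  rw [(List.isCycle_formPerm hn h2).cycleType, List.support_formPerm_of_nodup l hn,
      List.toFinset_card_of_nodup hn]
  rintro x rfl
  simp at h2

theorem Cyc.orderOf [Fintype α] {u : Perm α} {X : Finset α} (h : Cyc u X) :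
    orderOf u = X.card := by
  obtain ⟨l, hn, hne, rfl, rfl⟩ := h
  rw [List.toFinset_card_of_nodup hn]
  by_cases h1 : 2 ≤ l.length
  · rw [(List.isCycle_formPerm hn h1).orderOf, List.support_formPerm_of_nodup l hn,
      List.toFinset_card_of_nodup hn]
    rintro x rfl
    simp at h1
  · have : l.length = 1 := by
      have := List.length_pos_iff.2 hne
      omega
    obtain ⟨x, rfl⟩ := List.length_eq_one_iff.1 this
    simp

theorem Cyc.sign [Fintype α] {u : Perm α} {X : Finset α} (h : Cyc u X) (ho : Odd X.card) :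
    sign u = 1 := by
  have h1 : Equiv.Perm.sign u ^ X.card = 1 := by
    rw [← map_pow, ← h.orderOf, pow_orderOf_eq_one, map_one]
  rcases Int.units_eq_one_or (Equiv.Perm.sign u) with h2 | h2
  · exact h2
  · rw [h2, ho.neg_one_pow] at h1
    exact absurd h1 (by decide)

/-- In the alternating group of degree `n`: for every odd `l` with `3 n / 4 ≤ l ≤ n`, every
element is a product of two elements of order `l`. -/
theorem alt_two_cycles [Fintype α] {l : ℕ} (hl : Odd l)
    (h2 : 3 * Fintype.card α ≤ 4 * l) (h3 : l ≤ Fintype.card α) (g : alternatingGroup α) :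
    ∃ u v : alternatingGroup α, g = u * v ∧ orderOf u = l ∧ orderOf v = l := by
  obtain ⟨u, v, X, Y, hu, hv, e, a1, a2⟩ :=
    bertram (g : Perm α) (mem_alternatingGroup.1 g.2) hl.pos h2 h3
  refine ⟨⟨u, mem_alternatingGroup.2 (hu.sign (a1 ▸ hl))⟩,
    ⟨v, mem_alternatingGroup.2 (hv.sign (a2 ▸ hl))⟩, Subtype.ext e, ?_, ?_⟩
  · rw [← Subgroup.orderOf_coe, hu.orderOf, a1]
  · rw [← Subgroup.orderOf_coe, hv.orderOf, a2]

/-- An element of order prime to `k` is a `k`-th power. -/
theorem exists_pow_eq {G : Type*} [Group G] {x : G} {k : ℕ} (h : (orderOf x).Coprime k) :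
    ∃ y : G, y ^ k = x := by
  have := exists_pow_eq_self_of_coprime (x := x) (n := k) h.symm
  obtain ⟨m, hm⟩ := this
  exact ⟨x ^ m, by rw [← pow_mul, mul_comm, pow_mul, hm]⟩

/-- The word `x ^ k * y ^ l` on the alternating group, given one odd number `c` prime to
`k` and `l` in `[3 n / 4, n]`. -/
theorem alt_waring [Fintype α] {k l c : ℕ} (hc : Odd c) (hck : c.Coprime k) (hcl : c.Coprime l)
    (h2 : 3 * Fintype.card α ≤ 4 * c) (h3 : c ≤ Fintype.card α) (g : alternatingGroup α) :
    ∃ x y : alternatingGroup α, g = x ^ k * y ^ l := by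
  obtain ⟨u, v, e, hu, hv⟩ := alt_two_cycles hc h2 h3 g
  obtain ⟨x, hx⟩ := exists_pow_eq (x := u) (k := k) (by rwa [hu])
  obtain ⟨y, hy⟩ := exists_pow_eq (x := v) (k := l) (by rwa [hv])
  exact ⟨x, y, by rw [e, hx, hy]⟩

end Cfsg.Agent.H134.Bert
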