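import Cfsg.Agent.H134.LiftMore
import Cfsg.Agent.H134.Universal

/-!
# Tables for type `D₄`: pairs of orthogonal roots, pairs of non-orthogonal roots
-/

set_option autoImplicit false

namespace Cfsg.Agent.H134.D4Tab

open Cfsg.Lie Cfsg.Agent.ChevalleyStructure Cfsg.Agent.ChevalleyStructure.Elts
  Cfsg.Agent.ChevalleyStructure.St.Functional Cfsg.Agent.ChevalleyStructure.RootCombGood
  Cfsg.Agent.H133.ScRels Cfsg.Agent.H133.ScTheta Cfsg.Agent.H134.FamInj Cfsg.Agent.H134.LiftStep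
  Cfsg.Agent.H134.Lift Cfsg.Agent.H134.LiftMain Cfsg.Agent.H134.LiftMore Cfsg.Agent.H134.Universal
open Cfsg.Agent.ChevalleyStructure.St.Conj (lin lin_def lin_comb lin_neg Tab)
open Cfsg.Agent.H134.PairFacts (dot dot_eq lin_co)

open scoped commutatorElement

universe u v w

/-! ### The tables -/

/-- `s = a + b`: `(s, a, b, C)` -/
def abCert : List (ℕ × ℕ × ℕ × ℤ) := [
  (0, 1, 9, 1), (1, 0, 14, 1), (2, 0, 15, -1), (3, 0, 16, -1), (4, 0, 17, 1), (5, 1, 17, 1), (6, 0, 19, -1), (7, 0, 20, 1),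
  (8, 0, 21, 1), (9, 0, 22, -1), (10, 1, 20, -1), (11, 1, 21, -1), (12, 2, 22, -1), (13, 3, 22, -1), (14, 1, 23, -1), (15, 2, 23, 1),
  (16, 3, 23, 1), (17, 4, 23, -1), (18, 6, 22, 1), (19, 6, 23, 1), (20, 7, 23, -1), (21, 8, 23, -1), (22, 9, 23, 1), (23, 14, 22, 1)]

set_option maxHeartbeats 4000000 in
/-- For orthogonal `p, q`: `(p, q, r, s, b, b', C₁, C₂, C₃, C₄)` -/
def hwCert : List (ℕ × ℕ × ℕ × ℕ × ℕ × ℕ × ℤ × ℤ × ℤ × ℤ) := [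
  (0, 5, 4, 1, 14, 6, -1, -1, -1, -1), (0, 10, 7, 1, 14, 3, -1, 1, 1, -1), (0, 11, 8, 1, 14, 2, -1, 1, 1, -1),
  (0, 12, 9, 2, 15, 1, 1, 1, 1, 1), (0, 13, 9, 3, 16, 1, 1, 1, 1, 1), (0, 18, 9, 6, 19, 1, 1, -1, -1, 1),
  (1, 4, 5, 0, 9, 6, -1, -1, -1, -1), (1, 7, 10, 0, 9, 3, -1, 1, -1, 1), (1, 8, 11, 0, 9, 2, -1, 1, -1, 1),
  (1, 15, 14, 2, 12, 0, -1, 1, -1, 1), (1, 16, 14, 3, 13, 0, -1, 1, -1, 1), (1, 19, 14, 6, 18, 0, 1, -1, -1, 1),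
  (2, 3, 5, 0, 8, 7, 1, -1, 1, -1), (2, 6, 10, 0, 8, 4, 1, 1, 1, 1), (2, 9, 12, 0, 8, 1, 1, 1, 1, 1),
  (2, 14, 15, 1, 11, 0, -1, 1, 1, -1), (2, 17, 15, 4, 13, 0, -1, 1, 1, -1), (2, 20, 15, 7, 18, 0, 1, -1, 1, -1),
  (3, 2, 5, 0, 7, 8, 1, -1, 1, -1), (3, 6, 11, 0, 7, 4, 1, 1, 1, 1), (3, 9, 13, 0, 7, 1, 1, 1, 1, 1),
  (3, 14, 16, 1, 10, 0, -1, 1, 1, -1), (3, 17, 16, 4, 12, 0, -1, 1, 1, -1), (3, 21, 16, 8, 18, 0, 1, -1, 1, -1),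
  (4, 1, 5, 0, 6, 9, -1, -1, -1, -1), (4, 7, 12, 0, 6, 3, -1, 1, -1, 1), (4, 8, 13, 0, 6, 2, -1, 1, -1, 1),
  (4, 15, 17, 2, 10, 0, -1, 1, -1, 1), (4, 16, 17, 3, 11, 0, -1, 1, -1, 1), (4, 22, 17, 9, 18, 0, 1, -1, -1, 1),
  (5, 0, 4, 1, 6, 14, -1, -1, -1, -1), (5, 10, 15, 1, 6, 3, -1, -1, 1, 1), (5, 11, 16, 1, 6, 2, -1, -1, 1, 1),
  (5, 12, 17, 2, 7, 1, -1, -1, 1, 1), (5, 13, 17, 3, 8, 1, -1, -1, 1, 1), (5, 23, 17, 14, 19, 1, 1, -1, -1, 1),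
  (6, 2, 10, 0, 4, 8, 1, 1, 1, 1), (6, 3, 11, 0, 4, 7, 1, 1, 1, 1), (6, 9, 18, 0, 4, 1, 1, -1, 1, -1),
  (6, 14, 19, 1, 5, 0, 1, -1, 1, -1), (6, 20, 19, 7, 12, 0, -1, 1, 1, -1), (6, 21, 19, 8, 13, 0, -1, 1, 1, -1),
  (7, 1, 10, 0, 3, 9, -1, 1, -1, 1), (7, 4, 12, 0, 3, 6, -1, 1, -1, 1), (7, 8, 18, 0, 3, 2, -1, -1, -1, -1),
  (7, 15, 20, 2, 5, 0, 1, -1, -1, 1), (7, 19, 20, 6, 11, 0, -1, 1, -1, 1), (7, 22, 20, 9, 13, 0, -1, 1, -1, 1),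
  (8, 1, 11, 0, 2, 9, -1, 1, -1, 1), (8, 4, 13, 0, 2, 6, -1, 1, -1, 1), (8, 7, 18, 0, 2, 3, -1, -1, -1, -1),
  (8, 16, 21, 3, 5, 0, 1, -1, -1, 1), (8, 19, 21, 6, 10, 0, -1, 1, -1, 1), (8, 22, 21, 9, 12, 0, -1, 1, -1, 1),
  (9, 2, 12, 0, 1, 8, 1, 1, 1, 1), (9, 3, 13, 0, 1, 7, 1, 1, 1, 1), (9, 6, 18, 0, 1, 4, 1, -1, 1, -1),
  (9, 17, 22, 4, 5, 0, 1, -1, 1, -1), (9, 20, 22, 7, 10, 0, -1, 1, 1, -1), (9, 21, 22, 8, 11, 0, -1, 1, 1, -1),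
  (10, 0, 7, 1, 3, 14, 1, -1, -1, 1), (10, 5, 15, 1, 3, 6, 1, 1, -1, -1), (10, 11, 19, 1, 3, 2, 1, -1, 1, -1),
  (10, 12, 20, 2, 4, 1, 1, -1, 1, -1), (10, 18, 20, 6, 8, 1, 1, 1, -1, -1), (10, 23, 20, 14, 16, 1, -1, -1, -1, -1),
  (11, 0, 8, 1, 2, 14, 1, -1, -1, 1), (11, 5, 16, 1, 2, 6, 1, 1, -1, -1), (11, 10, 19, 1, 2, 3, 1, -1, 1, -1),
  (11, 13, 21, 3, 4, 1, 1, -1, 1, -1), (11, 18, 21, 6, 7, 1, 1, 1, -1, -1), (11, 23, 21, 14, 15, 1, -1, -1, -1, -1),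
  (12, 0, 9, 2, 1, 15, 1, 1, 1, 1), (12, 5, 17, 2, 1, 7, 1, 1, -1, -1), (12, 10, 20, 2, 1, 4, 1, -1, 1, -1),
  (12, 13, 22, 4, 3, 2, 1, -1, 1, -1), (12, 18, 22, 7, 6, 2, 1, 1, -1, -1), (12, 23, 22, 15, 14, 2, -1, 1, 1, -1),
  (13, 0, 9, 3, 1, 16, 1, 1, 1, 1), (13, 5, 17, 3, 1, 8, 1, 1, -1, -1), (13, 11, 21, 3, 1, 4, 1, -1, 1, -1),
  (13, 12, 22, 4, 2, 3, 1, -1, 1, -1), (13, 18, 22, 8, 6, 3, 1, 1, -1, -1), (13, 23, 22, 16, 14, 3, -1, 1, 1, -1),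
  (14, 2, 15, 1, 0, 11, 1, -1, -1, 1), (14, 3, 16, 1, 0, 10, 1, -1, -1, 1), (14, 6, 19, 1, 0, 5, 1, -1, 1, -1),
  (14, 17, 23, 5, 4, 1, 1, -1, 1, -1), (14, 20, 23, 10, 7, 1, -1, -1, -1, -1), (14, 21, 23, 11, 8, 1, -1, -1, -1, -1),
  (15, 1, 14, 2, 0, 12, -1, 1, -1, 1), (15, 4, 17, 2, 0, 10, -1, 1, -1, 1), (15, 7, 20, 2, 0, 5, -1, 1, 1, -1),
  (15, 16, 23, 5, 3, 2, 1, 1, 1, 1), (15, 19, 23, 10, 6, 2, -1, 1, -1, 1), (15, 22, 23, 12, 9, 2, -1, 1, -1, 1),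
  (16, 1, 14, 3, 0, 13, -1, 1, -1, 1), (16, 4, 17, 3, 0, 11, -1, 1, -1, 1), (16, 8, 21, 3, 0, 5, -1, 1, 1, -1),
  (16, 15, 23, 5, 2, 3, 1, 1, 1, 1), (16, 19, 23, 11, 6, 3, -1, 1, -1, 1), (16, 22, 23, 13, 9, 3, -1, 1, -1, 1),
  (17, 2, 15, 4, 0, 13, 1, -1, -1, 1), (17, 3, 16, 4, 0, 12, 1, -1, -1, 1), (17, 9, 22, 4, 0, 5, 1, -1, 1, -1),
  (17, 14, 23, 5, 1, 4, 1, -1, 1, -1), (17, 20, 23, 12, 7, 4, -1, -1, -1, -1), (17, 21, 23, 13, 8, 4, -1, -1, -1, -1),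
  (18, 0, 9, 6, 1, 19, -1, 1, 1, -1), (18, 10, 20, 6, 1, 8, -1, -1, 1, 1), (18, 11, 21, 6, 1, 7, -1, -1, 1, 1),
  (18, 12, 22, 7, 2, 6, -1, -1, 1, 1), (18, 13, 22, 8, 3, 6, -1, -1, 1, 1), (18, 23, 22, 19, 14, 6, 1, 1, 1, 1),
  (19, 1, 14, 6, 0, 18, -1, 1, 1, -1), (19, 7, 20, 6, 0, 11, -1, 1, -1, 1), (19, 8, 21, 6, 0, 10, -1, 1, -1, 1),
  (19, 15, 23, 10, 2, 6, -1, 1, -1, 1), (19, 16, 23, 11, 3, 6, -1, 1, -1, 1), (19, 22, 23, 18, 9, 6, 1, 1, 1, 1),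
  (20, 2, 15, 7, 0, 18, 1, -1, 1, -1), (20, 6, 19, 7, 0, 12, 1, -1, -1, 1), (20, 9, 22, 7, 0, 10, 1, -1, -1, 1),
  (20, 14, 23, 10, 1, 7, -1, -1, -1, -1), (20, 17, 23, 12, 4, 7, -1, -1, -1, -1), (20, 21, 23, 18, 8, 7, 1, -1, 1, -1),
  (21, 3, 16, 8, 0, 18, 1, -1, 1, -1), (21, 6, 19, 8, 0, 13, 1, -1, -1, 1), (21, 9, 22, 8, 0, 11, 1, -1, -1, 1),
  (21, 14, 23, 11, 1, 8, -1, -1, -1, -1), (21, 17, 23, 13, 4, 8, -1, -1, -1, -1), (21, 20, 23, 18, 7, 8, 1, -1, 1, -1),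
  (22, 4, 17, 9, 0, 18, -1, 1, 1, -1), (22, 7, 20, 9, 0, 13, -1, 1, -1, 1), (22, 8, 21, 9, 0, 12, -1, 1, -1, 1),
  (22, 15, 23, 12, 2, 9, -1, 1, -1, 1), (22, 16, 23, 13, 3, 9, -1, 1, -1, 1), (22, 19, 23, 18, 6, 9, 1, 1, 1, 1),
  (23, 5, 17, 14, 1, 19, -1, 1, 1, -1), (23, 10, 20, 14, 1, 16, -1, -1, -1, -1), (23, 11, 21, 14, 1, 15, -1, -1, -1, -1),
  (23, 12, 22, 15, 2, 14, 1, -1, -1, 1), (23, 13, 22, 16, 3, 14, 1, -1, -1, 1), (23, 18, 22, 19, 6, 14, 1, 1, 1, 1)]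

/-- Cartan integers, computed -/
def dc (t s : ℕ) : ℤ :=
  dot (chevD4.coroot.getD t #[]).toList ((List.range chevD4.rank).map fun k => chevD4.cartan k s)

theorem dc_eq (t s : ℕ) : dc t s = car chevD4 t s := by
  unfold dc
  rw [dot_eq]
  refine Finset.sum_congr rfl fun k _ => ?_
  congr 1
  show (chevD4.coroot.getD t #[]).toList.getD k 0 = (chevD4.coroot.getD t #[]).getD k 0
  simp

/-- there is a coroot vanishing on `p` with value one on `q` -/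
def torOK (p q : ℕ) : Bool := (List.range 24).any fun t => decide (dc t p = 0) && decide (dc t q = 1)

theorem exists_of_torOK {p q : ℕ} (h : torOK p q = true) : ∃ m : ℕ → ℤ, lin chevD4 m p = 0 ∧ lin chevD4 m q = 1 := by
  obtain ⟨t, _, h2⟩ := List.any_eq_true.1 h
  simp only [Bool.and_eq_true, decide_eq_true_eq] at h2
  exact ⟨co chevD4 t, by rw [lin_co, ← dc_eq]; exact h2.1, by rw [lin_co, ← dc_eq]; exact h2.2⟩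

def orth (p q : ℕ) : Bool := decide (dc q p = 0)

/-- The classification of pairs. -/
def chkPair : Bool := (List.range 24).all fun p => (List.range 24).all fun q =>
  Nat.beq q p || Nat.beq q (chevD4.neg p) ||
    (orth p q && decide (chevD4.commTerms p q = []) && hwCert.any fun c => Nat.beq c.1 p && Nat.beq c.2.1 q) ||
    torOK p q

set_option maxRecDepth 100000 in
theorem chkPair_eq : chkPair = true := by decide +kernel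

def chkAb : Bool := (List.range 24).all fun s => abCert.any fun c =>
  Nat.beq c.1 s && decide (c.2.1 < 24) && decide (c.2.2.1 < 24) &&
    decide (chevD4.commTerms c.2.1 c.2.2.1 = [(s, c.2.2.2, 1, 1)]) &&
    decide (c.2.2.2 = 1 ∨ c.2.2.2 = -1) && decide (chevD4.commTerms s c.2.1 = []) &&
    decide (chevD4.commTerms s c.2.2.1 = []) && torOK s c.2.1 && torOK s c.2.2.1 &&
    decide (c.2.1 ≠ s ∧ c.2.1 ≠ chevD4.neg s ∧ c.2.2.1 ≠ s ∧ c.2.2.1 ≠ chevD4.neg s ∧ c.2.2.1 ≠ c.2.1 ∧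
      c.2.2.1 ≠ chevD4.neg c.2.1)

set_option maxRecDepth 100000 in
theorem chkAb_eq : chkAb = true := by decide +kernel

/-- The conditions on a certificate `(p, q, r, s, b, b', C₁, C₂, C₃, C₄)`. -/
def good (p q : ℕ) : Bool := decide (q ≠ p) && decide (q ≠ chevD4.neg p) && decide (chevD4.commTerms p q = [])

def chkHW : Bool := hwCert.all fun (p, q, r, s, b, b', C₁, C₂, C₃, C₄) =>
  decide (p < 24) && decide (q < 24) && decide (r < 24) && decide (s < 24) && decide (b < 24) && decide (b' < 24) &&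
  decide (chevD4.commTerms b p = [(s, C₁, 1, 1)]) && decide (chevD4.commTerms b r = [(q, C₂, 1, 1)]) &&
  decide (chevD4.commTerms b' q = [(s, C₃, 1, 1)]) && decide (chevD4.commTerms b' r = [(p, C₄, 1, 1)]) &&
  decide (C₁ = 1 ∨ C₁ = -1) && decide (C₂ = 1 ∨ C₂ = -1) && decide (C₃ = 1 ∨ C₃ = -1) && decide (C₄ = 1 ∨ C₄ = -1) &&
  decide (C₁ * C₂ = C₃ * C₄) &&
  decide (p ≠ b ∧ p ≠ chevD4.neg b ∧ r ≠ b ∧ r ≠ chevD4.neg b ∧ q ≠ b' ∧ q ≠ chevD4.neg b' ∧ r ≠ b' ∧ r ≠ chevD4.neg b') &&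
  good r p && torOK r p && good r q && torOK r q && good q s && torOK q s && good p s && torOK p s &&
  good r s && good p q

set_option maxRecDepth 100000 in
theorem chkHW_eq : chkHW = true := by decide +kernel

/-- Non-orthogonal pairs have a torus functional; orthogonal ones have no commutator terms and a certificate. -/
theorem pair_cases {p q : ℕ} (hp : p < 24) (hq : q < 24) (h1 : q ≠ p) (h2 : q ≠ chevD4.neg p) :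
    (car chevD4 q p = 0 ∧ chevD4.commTerms p q = [] ∧ ∃ c ∈ hwCert, c.1 = p ∧ c.2.1 = q) ∨
      ∃ m : ℕ → ℤ, lin chevD4 m p = 0 ∧ lin chevD4 m q = 1 := by
  have h := List.all_eq_true.1 (List.all_eq_true.1 chkPair_eq p (List.mem_range.2 hp)) q (List.mem_range.2 hq)
  simp only [Bool.or_eq_true, Bool.and_eq_true, decide_eq_true_eq, orth, dc_eq] at h
  rcases h with ((h | h) | h) | h
  · exact absurd (Nat.eq_of_beq_eq_true h) h1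
  · exact absurd (Nat.eq_of_beq_eq_true h) h2
  · obtain ⟨⟨h3, h4⟩, h5⟩ := h
    obtain ⟨c, hc, h6⟩ := List.any_eq_true.1 h5
    simp only [Bool.and_eq_true] at h6
    exact Or.inl ⟨h3, h4, c, hc, Nat.eq_of_beq_eq_true h6.1, Nat.eq_of_beq_eq_true h6.2⟩
  · exact Or.inr (exists_of_torOK h)

/-- The data of a certificate. -/
structure HW (p q r s b b' : ℕ) (C₁ C₂ C₃ C₄ : ℤ) : Prop where
  hp : p < 24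
  hq : q < 24
  hr : r < 24
  hs : s < 24
  hb : b < 24
  hb' : b' < 24
  t1 : chevD4.commTerms b p = [(s, C₁, 1, 1)]
  t2 : chevD4.commTerms b r = [(q, C₂, 1, 1)]
  t3 : chevD4.commTerms b' q = [(s, C₃, 1, 1)]
  t4 : chevD4.commTerms b' r = [(p, C₄, 1, 1)]
  c1 : C₁ = 1 ∨ C₁ = -1
  c2 : C₂ = 1 ∨ C₂ = -1
  c3 : C₃ = 1 ∨ C₃ = -1
  c4 : C₄ = 1 ∨ C₄ = -1
  cc : C₁ * C₂ = C₃ * C₄
  ne : p ≠ b ∧ p ≠ chevD4.neg b ∧ r ≠ b ∧ r ≠ chevD4.neg b ∧ q ≠ b' ∧ q ≠ chevD4.neg b' ∧ r ≠ b' ∧ r ≠ chevD4.neg b'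
  rp : r ≠ p ∧ p ≠ r ∧ p ≠ chevD4.neg r ∧ chevD4.commTerms r p = []
  rq : q ≠ r ∧ q ≠ chevD4.neg r ∧ chevD4.commTerms r q = []
  qs : s ≠ q ∧ s ≠ chevD4.neg q ∧ chevD4.commTerms q s = []
  ps : s ≠ p ∧ s ≠ chevD4.neg p ∧ chevD4.commTerms p s = []
  rs : s ≠ r ∧ s ≠ chevD4.neg r ∧ chevD4.commTerms r s = []
  pq : q ≠ p ∧ q ≠ chevD4.neg p ∧ chevD4.commTerms p q = []
  mrp : ∃ m : ℕ → ℤ, lin chevD4 m r = 0 ∧ lin chevD4 m p = 1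
  mrq : ∃ m : ℕ → ℤ, lin chevD4 m r = 0 ∧ lin chevD4 m q = 1
  mqs : ∃ m : ℕ → ℤ, lin chevD4 m q = 0 ∧ lin chevD4 m s = 1
  mps : ∃ m : ℕ → ℤ, lin chevD4 m p = 0 ∧ lin chevD4 m s = 1

theorem hw_of_mem {p q r s b b' : ℕ} {C₁ C₂ C₃ C₄ : ℤ} (h : (p, q, r, s, b, b', C₁, C₂, C₃, C₄) ∈ hwCert) :
    HW p q r s b b' C₁ C₂ C₃ C₄ := by
  have h1 := List.all_eq_true.1 chkHW_eq _ h
  simp only [Bool.and_eq_true, decide_eq_true_eq, good] at h1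
  obtain ⟨⟨⟨⟨⟨⟨⟨⟨⟨⟨⟨⟨⟨⟨⟨⟨⟨⟨⟨⟨⟨⟨⟨⟨⟨hp, hq⟩, hr⟩, hs⟩, hb⟩, hb'⟩, t1⟩, t2⟩, t3⟩, t4⟩, c1⟩, c2⟩, c3⟩, c4⟩, cc⟩, ne⟩, rp⟩, mrp⟩,
    rq⟩, mrq⟩, qs⟩, mqs⟩, ps⟩, mps⟩, rs⟩, pq⟩ := h1
  exact ⟨hp, hq, hr, hs, hb, hb', t1, t2, t3, t4, c1, c2, c3, c4, cc, ne,
    ⟨rp.1.1.symm, rp.1.1, rp.1.2, rp.2⟩, ⟨rq.1.1, rq.1.2, rq.2⟩, ⟨qs.1.1, qs.1.2, qs.2⟩, ⟨ps.1.1, ps.1.2, ps.2⟩,
    ⟨rs.1.1, rs.1.2, rs.2⟩, ⟨pq.1.1, pq.1.2, pq.2⟩, exists_of_torOK mrp, exists_of_torOK mrq, exists_of_torOK mqs,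
    exists_of_torOK mps⟩

/-- Every root is a sum. -/
theorem exists_ab {s : ℕ} (hs : s < 24) : ∃ (a b : ℕ) (C : ℤ), a < 24 ∧ b < 24 ∧
    chevD4.commTerms a b = [(s, C, 1, 1)] ∧ (C = 1 ∨ C = -1) ∧ chevD4.commTerms s a = [] ∧
    chevD4.commTerms s b = [] ∧ (∃ m : ℕ → ℤ, lin chevD4 m s = 0 ∧ lin chevD4 m a = 1) ∧
    (∃ m : ℕ → ℤ, lin chevD4 m s = 0 ∧ lin chevD4 m b = 1) ∧
    (a ≠ s ∧ a ≠ chevD4.neg s ∧ b ≠ s ∧ b ≠ chevD4.neg s ∧ b ≠ a ∧ b ≠ chevD4.neg a) := by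
  have h := List.all_eq_true.1 chkAb_eq s (List.mem_range.2 hs)
  obtain ⟨c, -, h1⟩ := List.any_eq_true.1 h
  simp only [Bool.and_eq_true, decide_eq_true_eq] at h1
  obtain ⟨⟨⟨⟨⟨⟨⟨⟨⟨_, h2⟩, h3⟩, h4⟩, h5⟩, h6⟩, h7⟩, h8⟩, h9⟩, h10⟩ := h1
  exact ⟨c.2.1, c.2.2.1, c.2.2.2, h2, h3, h4, h5, h6, h7, exists_of_torOK h8, exists_of_torOK h9, h10⟩

end Cfsg.Agent.H134.D4Tab
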