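import Cfsg.Agent.H134.LiftMain

/-!
# More on lifts: the commutator pairing, and relations from torus elements and known relations
-/

set_option autoImplicit false

namespace Cfsg.Agent.H134.LiftMore

open Cfsg.Lie Cfsg.Agent.ChevalleyStructure Cfsg.Agent.ChevalleyStructure.Elts
  Cfsg.Agent.ChevalleyStructure.St.Functional
  Cfsg.Agent.H133.ScRels Cfsg.Agent.H133.ScTheta Cfsg.Agent.H134.FamInj Cfsg.Agent.H134.LiftStep
  Cfsg.Agent.H134.Lift Cfsg.Agent.H134.LiftMain
open Cfsg.Agent.ChevalleyStructure.St.Conj (lin lin_def lin_comb lin_neg Tab)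

open scoped commutatorElement

universe u v w

/-! ### The commutator pairing -/

section pairing

variable {E : Type v} [Group E] {G : Type u} [Group G] {π : E →* G} (hsurj : Function.Surjective π)
  (hc : π.ker ≤ Subgroup.center E)

/-- The commutator pairing of lifts. -/
noncomputable def B (hsurj : Function.Surjective π) (x y : G) : E :=
  ⁅Function.surjInv hsurj x, Function.surjInv hsurj y⁆

include hc in
theorem B_eq {p q : E} {x y : G} (hp : π p = x) (hq : π q = y) : ⁅p, q⁆ = B hsurj x y :=
  comm_congr hc (by rw [hp, Function.surjInv_eq hsurj]) (by rw [hq, Function.surjInv_eq hsurj])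

theorem B_mem {x y : G} (h : x * y = y * x) : B hsurj x y ∈ π.ker := by
  unfold B
  rw [MonoidHom.mem_ker, map_commutatorElement, Function.surjInv_eq hsurj, Function.surjInv_eq hsurj,
    commutatorElement_eq_one_iff_mul_comm]
  exact h

include hc in
theorem B_mul_left {x x' y : G} (h : x' * y = y * x') : B hsurj (x * x') y = B hsurj x y * B hsurj x' y := by
  have h1 := comm_mul_left hc (p := Function.surjInv hsurj x) (B_mem hsurj h)
  have h2 : B hsurj (x * x') y = ⁅Function.surjInv hsurj x * Function.surjInv hsurj x', Function.surjInv hsurj y⁆ :=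
    (B_eq hsurj hc (by rw [map_mul, Function.surjInv_eq hsurj, Function.surjInv_eq hsurj]) (Function.surjInv_eq _ _)).symm
  rw [h2, h1]; rfl

include hc in
theorem B_mul_right {x y y' : G} (h : x * y' = y' * x) : B hsurj x (y * y') = B hsurj x y * B hsurj x y' := by
  have h1 := comm_mul_right hc (q := Function.surjInv hsurj y) (B_mem hsurj h)
  have h2 : B hsurj x (y * y') = ⁅Function.surjInv hsurj x, Function.surjInv hsurj y * Function.surjInv hsurj y'⁆ :=
    (B_eq hsurj hc (Function.surjInv_eq _ _) (by rw [map_mul, Function.surjInv_eq hsurj, Function.surjInv_eq hsurj])).symm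
  rw [h2, h1]; rfl

theorem B_symm (x y : G) : B hsurj y x = (B hsurj x y)⁻¹ := by
  unfold B
  rw [commutatorElement_inv]

include hc in
theorem B_conj {x y : G} (h : x * y = y * x) (g : G) :
    B hsurj (g⁻¹ * x * g) (g⁻¹ * y * g) = B hsurj x y := by
  obtain ⟨p, rfl⟩ := hsurj g
  have h1 : ⁅p⁻¹ * Function.surjInv hsurj x * p, p⁻¹ * Function.surjInv hsurj y * p⁆ =
      p⁻¹ * B hsurj x y * p := by
    unfold B
    simp only [commutatorElement_def]; group
  rw [← B_eq hsurj hc (p := p⁻¹ * Function.surjInv hsurj x * p) (q := p⁻¹ * Function.surjInv hsurj y * p)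
    (by rw [map_mul, map_mul, map_inv, Function.surjInv_eq hsurj]) (by rw [map_mul, map_mul, map_inv, Function.surjInv_eq hsurj]),
    h1, mul_assoc, ker_comm hc (B_mem hsurj h) p, inv_mul_cancel_left]

include hc in
theorem B_eq_one_iff {x y : G} : B hsurj x y = 1 ↔ ∀ p q : E, π p = x → π q = y → p * q = q * p := by
  constructor
  · intro h p q hp hq
    rw [← B_eq hsurj hc hp hq] at h
    exact commutatorElement_eq_one_iff_mul_comm.1 h
  · intro h
    exact commutatorElement_eq_one_iff_mul_comm.2 (h _ _ (Function.surjInv_eq _ _) (Function.surjInv_eq _ _))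

end pairing

/-! ### The canonical lift of one root subgroup -/

section local_lifts

variable {K : Type u} [Field K] {D : ChevalleyDatum} {E : Type v} [Group E]
  {π : E →* D.SteinbergCover K} (hsurj : Function.Surjective π) (hc : π.ker ≤ Subgroup.center E)
  (hperf : commutator (D.SteinbergCover K) = ⊤) (H : ℕ → D.SteinbergCover K) (A : ℕ → ℕ → K) {s : ℕ}
  (hA : Act (H s) (A s)) (hA1 : A s s ≠ 1)

include hA hA1 in
theorem map_yy (hs : s < D.nroots) (u : K) : π (yy hsurj H A s u) = D.scGen K s u := by
  unfold yy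
  rw [map_commutatorElement, Function.surjInv_eq hsurj, Function.surjInv_eq hsurj, commutatorElement_def,
    hA.act s hs, scGen_inv, scGen_add']
  congr 1
  have h := sub_ne_zero.2 hA1
  field_simp
  ring

include hA hc hperf in
/-- Equivariance under torus elements. -/
theorem conj_yy (hs : s < D.nroots) (u : K) {g : E} {b : ℕ → K} (hg : Act (π g) b) :
    g * yy hsurj H A s u * g⁻¹ = yy hsurj H A s (b s * u) := by
  unfold yy
  have h2 : ∀ p q : E, g * ⁅p, q⁆ * g⁻¹ = ⁅g * p * g⁻¹, g * q * g⁻¹⁆ := by
    intro p q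
    simp only [commutatorElement_def]; group
  rw [h2]
  have hπ : ∀ δ, π (Function.surjInv hsurj δ) = δ := Function.surjInv_eq hsurj
  set p := Function.surjInv hsurj (H s) with hp
  set ζ := g * p * g⁻¹ * p⁻¹ with hζ
  have hζc : ζ ∈ Subgroup.center E := by
    apply central_of_map hsurj hc hperf
    rw [hζ, map_mul, map_mul, map_mul, map_inv, map_inv, hp, hπ]
    exact hA.comm_central hg
  have h3 : g * p * g⁻¹ = ζ * p := by rw [hζ]; group
  rw [h3]
  have h4 : ∀ q : E, ⁅ζ * p, q⁆ = ⁅p, q⁆ := by
    intro q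
    have hz := Subgroup.mem_center_iff.1 hζc
    rw [commutatorElement_def, commutatorElement_def, mul_inv_rev]
    have : ζ * p * q * (p⁻¹ * ζ⁻¹) * q⁻¹ = ζ * (p * q * p⁻¹) * ζ⁻¹ * q⁻¹ := by group
    rw [this, ← hz]; group
  rw [h4]
  apply comm_congr hc rfl
  rw [map_mul, map_mul, map_inv, hπ, hπ, hg.act s hs, mul_div_assoc]

include hA hA1 hc in
/-- Additivity. -/
theorem yy_add (hs : s < D.nroots) (hab : Ab D π s) (t u : K) :
    yy hsurj H A s t * yy hsurj H A s u = yy hsurj H A s (t + u) := by
  have hπ : ∀ δ, π (Function.surjInv hsurj δ) = δ := Function.surjInv_eq hsurj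
  have hmap := map_yy hsurj H A hA hA1 hs u
  unfold yy at hmap ⊢
  set p := Function.surjInv hsurj (H s) with hp
  set q := Function.surjInv hsurj (D.scGen K s (t / (A s s - 1))) with hq
  set q' := Function.surjInv hsurj (D.scGen K s (u / (A s s - 1))) with hq'
  have h1 : q * ⁅p, q'⁆ = ⁅p, q'⁆ * q := hab q ⁅p, q'⁆ _ _ (hπ _) hmap
  have h2 : ⁅p, q * q'⁆ = ⁅p, q⁆ * ⁅p, q'⁆ := by
    have e : ⁅p, q * q'⁆ = ⁅p, q⁆ * (q * ⁅p, q'⁆ * q⁻¹) := by
      simp only [commutatorElement_def]; group
    rw [e, h1, mul_inv_cancel_right]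
  rw [← h2]
  apply comm_congr hc rfl
  rw [map_mul, hπ, hπ, hπ, scGen_add']
  congr 1
  ring

end local_lifts

variable {K : Type u} [Field K] {D : ChevalleyDatum} {E : Type v} [Group E]
  {π : E →* D.SteinbergCover K} {y : ℕ → K → E}

/-- All commutator relations, from torus elements and some known relations. -/
theorem rel2_all (hD : InList D) (L : Setup D π (D.scGen K) (thetaGL hD K) y)
    (hgood : ∀ r s, r < D.nroots → s < D.nroots → s ≠ r → s ≠ D.neg r →
      Rel2 D y r s ∨ TorGood D y r s ∨ PGood K π) :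
    ∀ r s, r < D.nroots → s < D.nroots → s ≠ r → s ≠ D.neg r → Rel2 D y r s := by
  intro r₀ s₀ hr₀ hs₀ h₁ h₂
  obtain ⟨m0, T⟩ := St.TabAll.exists_tab hD
  obtain ⟨m, hmr, hms⟩ := PairFacts.exists_pos hD hr₀ hs₀ h₁ h₂
  set f := lin D m with hfdef
  have hf : Fun D f := T.fun_lin m
  obtain ⟨B, hB⟩ := Finset.exists_le ((Finset.range D.nroots).image f)
  have hB' : ∀ q < D.nroots, f q ≤ B := fun q hq => hB _ (Finset.mem_image_of_mem _ (Finset.mem_range.2 hq))
  have main : ∀ k : ℕ, ∀ n : ℤ, 2 * B + 1 ≤ n + k → ∀ r s, r < D.nroots → s < D.nroots → s ≠ r →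
      0 < f r → 0 < f s → n ≤ f r + f s → Rel2 D y r s := by
    intro k
    induction k with
    | zero =>
      intro n hn r s hr hs _ _ _ h
      have := hB' r hr
      have := hB' s hs
      simp only [Nat.cast_zero] at hn
      omega
    | succ k ih =>
      intro n hn r s hr hs hsr hfr hfs h
      by_cases hlt : n + 1 ≤ f r + f s
      · exact ih (n + 1) (by push_cast at hn; omega) r s hr hs hsr hfr hfs hlt
      have heq : f r + f s = n := by omega
      have hrel : ∀ a b, a < D.nroots → b < D.nroots → b ≠ a → 0 < f a → 0 < f b → n < f a + f b → Rel2 D y a b :=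
        fun a b ha hb hba hfa hfb hab => ih (n + 1) (by push_cast at hn; omega) a b ha hb hba hfa hfb (by omega)
      have hsn : s ≠ D.neg r := by
        intro e
        rw [e, hf.neg r hr] at hfs
        omega
      -- the closed set
      have hterm : ∀ a b, a < D.nroots → b < D.nroots → 0 < f a → 0 < f b → n ≤ f a + f b →
          ∀ c ∈ D.commTerms a b, n ≤ f c.1 := by
        intro a b ha hb hfa hfb hab c hcm
        obtain ⟨h1, h2, h3, h4⟩ := commTerms_spec L.wf ha hb hcm
        rw [h4 f hf]
        have e1 : 1 * f a ≤ (c.2.2.1 : ℤ) * f a := mul_le_mul_of_nonneg_right (by exact_mod_cast h2) hfa.le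
        have e2 : 1 * f b ≤ (c.2.2.2 : ℤ) * f b := mul_le_mul_of_nonneg_right (by exact_mod_cast h3) hfb.le
        omega
      rcases hgood r s hr hs hsr hsn with hg | hg
      · exact hg
      refine L.rel2_step hf (S := fun q => n ≤ f q) ?_ ?_ ?_ hr hs hsr hsn ?_ ?_ ?_ hg
      · intro q _ hq
        have : n ≤ f q := hq
        omega
      · intro a b ha hb hSa hSb hba c hcm
        have h1 : n ≤ f a := hSa
        have h2 : n ≤ f b := hSb
        exact hterm a b ha hb (by omega) (by omega) (by omega) c hcm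
      · intro a b ha hb hba hSa hSb
        have h1 : n ≤ f a := hSa
        have h2 : n ≤ f b := hSb
        exact hrel a b ha hb hba (by omega) (by omega) (by omega)
      · intro c hcm
        exact hterm r s hr hs hfr hfs h c hcm
      · intro q hq hSq c hcm
        have h1 : n ≤ f q := hSq
        exact hterm s q hs hq hfs (by omega) (by omega) c hcm
      · intro q hq hSq
        have h1 : n ≤ f q := hSq
        refine hrel s q hs hq ?_ hfs (by omega) (by omega)
        rintro rfl
        omega
  exact main (2 * B + 1 - (f r₀ + f s₀)).toNat (f r₀ + f s₀) (by omega) r₀ s₀ hr₀ hs₀ h₁ hmr hms le_rfl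

/-- Commuting families satisfy (R2) if there are no terms. -/
theorem rel2_of_nil {r s : ℕ} (h : D.commTerms r s = []) (hcomm : ∀ t u : K, y r t * y s u = y s u * y r t) :
    Rel2 D y r s := by
  intro t u
  have h2 : D.commWord K r s t u = [] := by
    show (D.commTerms r s).map _ = []
    rw [h]; rfl
  rw [h2, wordF_nil, mul_one, mul_assoc, ← hcomm, inv_mul_cancel_left]

end Cfsg.Agent.H134.LiftMore
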