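import Cfsg.Agent.H134.SmallD4

/-!
# Central extensions of the group presented by (R1), (R2) of type `B₂` over the fields with three and four elements
-/

set_option autoImplicit false

namespace Cfsg.Agent.H134.SmallB2

open Cfsg.Lie Cfsg.Agent.ChevalleyStructure Cfsg.Agent.ChevalleyStructure.Elts
  Cfsg.Agent.ChevalleyStructure.St.Functional Cfsg.Agent.ChevalleyStructure.RootCombGood
  Cfsg.Agent.H133.ScRels Cfsg.Agent.H133.ScTheta Cfsg.Agent.H134.FamInj Cfsg.Agent.H134.LiftStep
  Cfsg.Agent.H134.Lift Cfsg.Agent.H134.LiftMain Cfsg.Agent.H134.LiftMore Cfsg.Agent.H134.Universal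
  Cfsg.Agent.H134.SmallD4
open Cfsg.Agent.ChevalleyStructure.St.Conj (lin lin_def lin_comb lin_neg Tab)
open Cfsg.Agent.H134.PairFacts (dot dot_eq lin_co)

open scoped commutatorElement

universe u v w

theorem inList : InList chevB2 := by simp [InList]

/-- The functional with coefficients `x`, `y`. -/
def fn (x y : ℤ) : ℕ → ℤ := fun j => if j = 0 then x else y

theorem lin_fn (x y : ℤ) (s : ℕ) : lin chevB2 (fn x y) s = x * chevB2.cartan 0 s + y * chevB2.cartan 1 s := by
  rw [lin_def]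
  show ∑ k ∈ Finset.range 2, _ = _
  rw [Finset.sum_range_succ, Finset.sum_range_one]
  rfl

def tor2 (r s : ℕ) : Bool := ([-2, -1, 0, 1, 2] : List ℤ).any fun x => ([-2, -1, 0, 1, 2] : List ℤ).any fun y =>
  decide (x * chevB2.cartan 0 r + y * chevB2.cartan 1 r = 0 ∧ x * chevB2.cartan 0 s + y * chevB2.cartan 1 s = 2)

theorem tor2_tab : ∀ r < 8, ∀ s < 8, s ≠ r → s ≠ chevB2.neg r → tor2 r s = true := by
  decide +kernel

theorem exists_tor2 {r s : ℕ} (hr : r < 8) (hs : s < 8) (h1 : s ≠ r) (h2 : s ≠ chevB2.neg r) :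
    ∃ m : ℕ → ℤ, lin chevB2 m r = 0 ∧ lin chevB2 m s = 2 := by
  obtain ⟨x, -, h3⟩ := List.any_eq_true.1 (tor2_tab r hr s hs h1 h2)
  obtain ⟨y, -, h4⟩ := List.any_eq_true.1 h3
  have h5 := of_decide_eq_true h4
  exact ⟨fn x y, by rw [lin_fn, h5.1], by rw [lin_fn, h5.2]⟩

/-! ### Characteristic two -/

section two

variable {K : Type u} [Field K] {D : ChevalleyDatum}

/-- A root element of `c = a + b` as a product of root elements for `a`, `b`, `s = 2a + b`. -/
theorem mem_closure_short {a b c s : ℕ} (ha : a < D.nroots) (hb : b < D.nroots) (hba : b ≠ a) (hbn : b ≠ D.neg a)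
    {C₁ C₂ : ℤ} (hC : C₁ = 1 ∨ C₁ = -1) (h : D.commTerms a b = [(c, C₁, 1, 1), (s, C₂, 2, 1)]) (u : K) :
    D.scGen K c u ∈ Subgroup.closure {x | ∃ q ∈ ({a, b, s} : Set ℕ), ∃ v : K, x = D.scGen K q v} := by
  have h1 := scGen_comm (K := K) ha hb hba hbn 1 (-(C₁ : K) * u)
  have h2 : word D K (D.commWord K a b 1 (-(C₁ : K) * u)) =
      D.scGen K c u * D.scGen K s ((C₂ : K) * (-1) ^ 2 * (-(C₁ : K) * u) ^ 1) := by
    show word D K ((D.commTerms a b).map fun c => (c.1, (c.2.1 : K) * (-1) ^ c.2.2.1 * (-(C₁ : K) * u) ^ c.2.2.2)) = _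
    rw [h, List.map_cons, List.map_cons, List.map_nil, word_cons, word_cons, word_nil, mul_one]
    congr 2
    show (C₁ : K) * (-1) ^ 1 * (-(C₁ : K) * u) ^ 1 = u
    rcases hC with rfl | rfl <;> push_cast <;> ring
  rw [h2] at h1
  have h3 : D.scGen K c u =
      ((D.scGen K b (-(C₁ : K) * u))⁻¹ * (D.scGen K a 1)⁻¹ * D.scGen K b (-(C₁ : K) * u) * D.scGen K a 1) *
      (D.scGen K s ((C₂ : K) * (-1) ^ 2 * (-(C₁ : K) * u) ^ 1))⁻¹ := by
    rw [h1]; group
  rw [h3]
  have hm : ∀ q ∈ ({a, b, s} : Set ℕ), ∀ v : K, D.scGen K q v ∈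
      Subgroup.closure {x | ∃ q ∈ ({a, b, s} : Set ℕ), ∃ v : K, x = D.scGen K q v} :=
    fun q hq v => Subgroup.subset_closure ⟨q, hq, v, rfl⟩
  have ma := hm a (by simp)
  have mb := hm b (by simp)
  have mc := hm s (by simp)
  exact mul_mem (mul_mem (mul_mem (mul_mem (inv_mem (mb _)) (inv_mem (ma _))) (mb _)) (ma _)) (inv_mem (mc _))

/-- The terms vanish in characteristic two. -/
def Even (D : ChevalleyDatum) (s q : ℕ) : Prop := ∀ c ∈ D.commTerms s q, c.2.1 % 2 = 0

instance (D : ChevalleyDatum) (s q : ℕ) : Decidable (Even D s q) :=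
  inferInstanceAs (Decidable (∀ c ∈ D.commTerms s q, c.2.1 % 2 = 0))

theorem comm_of_even (h2 : (2 : K) = 0) {r s : ℕ} (hr : r < D.nroots) (hs : s < D.nroots) (hsr : s ≠ r)
    (hsn : s ≠ D.neg r) (h : Even D r s) (t u : K) :
    D.scGen K r t * D.scGen K s u = D.scGen K s u * D.scGen K r t := by
  have h1 := scGen_conj hr hs hsr hsn t u
  have h3 : word D K (D.commWord K r s t u) = 1 := by
    show word D K ((D.commTerms r s).map fun c => (c.1, (c.2.1 : K) * (-t) ^ c.2.2.1 * u ^ c.2.2.2)) = 1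
    have key : ∀ l : List (ℕ × ℤ × ℕ × ℕ), (∀ c ∈ l, c.2.1 % 2 = 0) →
        word D K (l.map fun c => (c.1, (c.2.1 : K) * (-t) ^ c.2.2.1 * u ^ c.2.2.2)) = 1 := by
      intro l
      induction l with
      | nil => intro _; rfl
      | cons c l ih =>
        intro hl
        rw [List.map_cons, word_cons, ih fun c hc => hl c (List.mem_cons_of_mem _ hc), mul_one]
        obtain ⟨k, hk⟩ : (2 : ℤ) ∣ c.2.1 := Int.dvd_of_emod_eq_zero (hl c (List.mem_cons_self))
        have h4 : ((c.2.1 : ℤ) : K) = 0 := by rw [hk]; push_cast; rw [h2, zero_mul]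
        show D.scGen K c.1 (((c.2.1 : ℤ) : K) * (-t) ^ c.2.2.1 * u ^ c.2.2.2) = 1
        rw [h4, zero_mul, zero_mul, scGen_zero]
    exact key _ h
  rw [h3, mul_one, mul_assoc, inv_mul_eq_iff_eq_mul] at h1
  exact h1.symm

variable {E : Type v} [Group E] {π : E →* chevB2.SteinbergCover K}

theorem ab_two (h2 : (2 : K) = 0) {c : K} (hc0 : c ≠ 0) (hc2 : c ^ 2 ≠ 1)
    (hsurj : Function.Surjective π) (hc : π.ker ≤ Subgroup.center E) {s : ℕ} (hs : s < 8) : Ab chevB2 π s := by
  have comm : ∀ {s q : ℕ} (_ : s < 8) (_ : q < 8) (_ : q ≠ s ∧ q ≠ chevB2.neg s ∧ Even chevB2 s q),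
      ∀ p p' : E, ∀ t v : K, π p = chevB2.scGen K s t → π p' = chevB2.scGen K q v → p * p' = p' * p := by
    intro s q hs hq ⟨h3, h4, h5⟩ p p' t v hp hp'
    obtain ⟨m, hm0, hm2⟩ := exists_tor2 hs hq h3 h4
    obtain ⟨h, H⟩ := exists_act inList m hc0
    refine commute_of_act hsurj hc hs hq (comm_of_even h2 hs hq h3 h4 h5) H ?_ ?_ hp hp'
    · show c ^ lin chevB2 m s = 1
      rw [hm0, zpow_zero]
    · show c ^ lin chevB2 m q ≠ 1
      rw [hm2]
      exact_mod_cast hc2
  have long : ∀ {a b c s : ℕ} (_ : a < 8) (_ : b < 8) (_ : c < 8)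
      (_ : s < 8) (_ : b ≠ a) (_ : b ≠ chevB2.neg a)
      {C₁ C₂ : ℤ} (_ : C₂ = 1 ∨ C₂ = -1) (_ : chevB2.commTerms a b = [(c, C₁, 1, 1), (s, C₂, 2, 1)])
      (_ : ∀ q ∈ ({a, b, c} : Set ℕ), q ≠ s ∧ q ≠ chevB2.neg s ∧ Even chevB2 s q), Ab chevB2 π s := by
    intro a b c s ha hb hc' hs hba hbn C₁ C₂ hC h h1
    refine ab_of_closure hsurj hc (Q := {a, b, c}) (fun u => mem_closure_long ha hb hba hbn hC h u) ?_
    intro q hq p p' t v hp hp'
    have hq' : q < 8 := by
      rcases hq with rfl | rfl | rfl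
      · exact ha
      · exact hb
      · exact hc'
    exact comm hs hq' (h1 q hq) p p' t v hp hp'
  have short : ∀ {a b c s : ℕ} (_ : a < 8) (_ : b < 8) (_ : c < 8)
      (_ : s < 8) (_ : b ≠ a) (_ : b ≠ chevB2.neg a)
      {C₁ C₂ : ℤ} (_ : C₁ = 1 ∨ C₁ = -1) (_ : chevB2.commTerms a b = [(s, C₁, 1, 1), (c, C₂, 2, 1)])
      (_ : ∀ q ∈ ({a, b, c} : Set ℕ), q ≠ s ∧ q ≠ chevB2.neg s ∧ Even chevB2 s q), Ab chevB2 π s := by
    intro a b c s ha hb hc' hs hba hbn C₁ C₂ hC h h1
    refine ab_of_closure hsurj hc (Q := {a, b, c}) (fun u => mem_closure_short ha hb hba hbn hC h u) ?_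
    intro q hq p p' t v hp hp'
    have hq' : q < 8 := by
      rcases hq with rfl | rfl | rfl
      · exact ha
      · exact hb
      · exact hc'
    exact comm hs hq' (h1 q hq) p p' t v hp hp'
  have f3 : ∀ {a b c : ℕ} {P : ℕ → Prop}, P a → P b → P c → ∀ q ∈ ({a, b, c} : Set ℕ), P q := by
    intro a b c P ha hb hc q hq
    rcases hq with rfl | rfl | rfl
    · exact ha
    · exact hb
    · exact hc
  interval_cases s
  · exact long (a := 2) (b := 3) (c := 1) (C₁ := 1) (C₂ := -1) (by decide) (by decide) (by decide) (by decide)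
      (by decide) (by decide) (by decide) (by decide) (f3 (by decide) (by decide) (by decide))
  · exact short (a := 2) (b := 3) (c := 0) (C₁ := 1) (C₂ := -1) (by decide) (by decide) (by decide) (by decide)
      (by decide) (by decide) (by decide) (by decide) (f3 (by decide) (by decide) (by decide))
  · exact short (a := 1) (b := 4) (c := 0) (C₁ := 1) (C₂ := 1) (by decide) (by decide) (by decide) (by decide)
      (by decide) (by decide) (by decide) (by decide) (f3 (by decide) (by decide) (by decide))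
  · exact long (a := 1) (b := 7) (c := 5) (C₁ := -1) (C₂ := 1) (by decide) (by decide) (by decide) (by decide)
      (by decide) (by decide) (by decide) (by decide) (f3 (by decide) (by decide) (by decide))
  · exact long (a := 6) (b := 0) (c := 2) (C₁ := 1) (C₂ := 1) (by decide) (by decide) (by decide) (by decide)
      (by decide) (by decide) (by decide) (by decide) (f3 (by decide) (by decide) (by decide))
  · exact short (a := 1) (b := 7) (c := 3) (C₁ := -1) (C₂ := 1) (by decide) (by decide) (by decide) (by decide)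
      (by decide) (by decide) (by decide) (by decide) (f3 (by decide) (by decide) (by decide))
  · exact short (a := 2) (b := 7) (c := 4) (C₁ := 1) (C₂ := -1) (by decide) (by decide) (by decide) (by decide)
      (by decide) (by decide) (by decide) (by decide) (f3 (by decide) (by decide) (by decide))
  · exact long (a := 5) (b := 4) (c := 6) (C₁ := -1) (C₂ := -1) (by decide) (by decide) (by decide) (by decide)
      (by decide) (by decide) (by decide) (by decide) (f3 (by decide) (by decide) (by decide))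

/-- Characteristic two, some `c² ≠ 1`. -/
theorem exists_section_two (h2 : (2 : K) = 0) {c : K} (hc0 : c ≠ 0) (hc2 : c ^ 2 ≠ 1)
    (hsurj : Function.Surjective π) (hc : π.ker ≤ Subgroup.center E) :
    ∃ τ : chevB2.SteinbergCover K →* E, π.comp τ = MonoidHom.id _ := by
  have hperf : commutator (chevB2.SteinbergCover K) = ⊤ :=
    Cfsg.Agent.S2395.result chevB2 inList fun _ => ⟨c, hc0, fun h => hc2 (by rw [h, one_pow])⟩
  refine exists_section_of_act inList hsurj hc hperf ?_ (fun s hs => ab_two h2 hc0 hc2 hsurj hc hs) ?_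
  · intro s hs
    obtain ⟨h, H⟩ := exists_act inList (co chevB2 s) hc0
    refine ⟨h, _, H, ?_⟩
    show c ^ lin chevB2 (co chevB2 s) s ≠ 1
    rw [lin_co, (RootComb.good_of_mem inList).car_self hs]
    exact_mod_cast hc2
  · intro r s hr hs hsr hsn
    obtain ⟨m, hm0, hm2⟩ := exists_tor2 hr hs hsr hsn
    obtain ⟨h, H⟩ := exists_act inList m hc0
    refine ⟨h, _, H, ?_, ?_⟩
    · show c ^ lin chevB2 m r = 1
      rw [hm0, zpow_zero]
    · show c ^ lin chevB2 m s ≠ 1
      rw [hm2]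
      exact_mod_cast hc2

end two

end Cfsg.Agent.H134.SmallB2
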