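import Cfsg.Agent.H134.D4Tab

/-!
# Central extensions of the group presented by (R1), (R2) of type `D₄` over a field with more than two elements
-/

set_option autoImplicit false

namespace Cfsg.Agent.H134.SmallD4

open Cfsg.Lie Cfsg.Agent.ChevalleyStructure Cfsg.Agent.ChevalleyStructure.Elts
  Cfsg.Agent.ChevalleyStructure.St.Functional Cfsg.Agent.ChevalleyStructure.RootCombGood
  Cfsg.Agent.H133.ScRels Cfsg.Agent.H133.ScTheta Cfsg.Agent.H134.FamInj Cfsg.Agent.H134.LiftStep
  Cfsg.Agent.H134.Lift Cfsg.Agent.H134.LiftMain Cfsg.Agent.H134.LiftMore Cfsg.Agent.H134.Universal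
  Cfsg.Agent.H134.D4Tab
open Cfsg.Agent.ChevalleyStructure.St.Conj (lin lin_def lin_comb lin_neg Tab)
open Cfsg.Agent.H134.PairFacts (dot dot_eq lin_co)

open scoped commutatorElement

universe u v w

/-! ### Fields -/

/-- A field with an element `≠ 0, 1`: either some `c ≠ 0` has `c² ≠ 1`, or it has three elements. -/
theorem field_cases {K : Type u} [Field K] (hK : ∃ x : K, x ≠ 0 ∧ x ≠ 1) :
    (∃ c : K, c ≠ 0 ∧ c ^ 2 ≠ 1) ∨ ((3 : K) = 0 ∧ (2 : K) ≠ 0 ∧ ∀ t : K, t = 0 ∨ t = 1 ∨ t = -1) := by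
  by_cases h : ∃ c : K, c ≠ 0 ∧ c ^ 2 ≠ 1
  · exact Or.inl h
  · right
    push Not at h
    have hall : ∀ t : K, t = 0 ∨ t = 1 ∨ t = -1 := by
      intro t
      by_cases h0 : t = 0
      · exact Or.inl h0
      · exact Or.inr (sq_eq_one_iff_of_ne_zero' t (h t h0))
    obtain ⟨x, h0, h1⟩ := hK
    have hx : x = -1 := by
      rcases hall x with h2 | h2 | h2
      · exact absurd h2 h0
      · exact absurd h2 h1
      · exact h2
    have h2 : (2 : K) ≠ 0 := by
      intro h2
      apply h1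
      rw [hx]
      linear_combination -h2
    refine ⟨?_, h2, hall⟩
    rcases hall 2 with h3 | h3 | h3
    · exact absurd h3 h2
    · exfalso
      have : (1 : K) = 0 := by linear_combination h3
      exact one_ne_zero this
    · linear_combination h3
where
  sq_eq_one_iff_of_ne_zero' {K : Type u} [Field K] (t : K) (h : t ^ 2 = 1) : t = 1 ∨ t = -1 :=
    sq_eq_one_iff_of_side_cond t h
  sq_eq_one_iff_of_side_cond {K : Type u} [Field K] (t : K) (h : t ^ 2 = 1) : t = 1 ∨ t = -1 := by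
    have h2 : (t - 1) * (t + 1) = 0 := by linear_combination h
    rcases mul_eq_zero.1 h2 with h3 | h3
    · exact Or.inl (sub_eq_zero.1 h3)
    · exact Or.inr (eq_neg_of_add_eq_zero_left h3)

/-! ### The pairing on commuting root subgroups -/

section

variable {K : Type u} [Field K] {D : ChevalleyDatum} {E : Type v} [Group E] {π : E →* D.SteinbergCover K}
  (hsurj : Function.Surjective π) (hc : π.ker ≤ Subgroup.center E)

theorem commute_of_nil {r s : ℕ} (hr : r < D.nroots) (hs : s < D.nroots) (h : s ≠ r ∧ s ≠ D.neg r ∧ D.commTerms r s = [])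
    (t u : K) : D.scGen K r t * D.scGen K s u = D.scGen K s u * D.scGen K r t :=
  comm_of_nil hr hs h.1 h.2.1 h.2.2 t u

include hc in
/-- The pairing vanishes if there is a torus element. -/
theorem B_act {r s : ℕ} (hr : r < D.nroots) (hs : s < D.nroots)
    (hcomm : ∀ t u : K, D.scGen K r t * D.scGen K s u = D.scGen K s u * D.scGen K r t)
    {h : D.SteinbergCover K} {a : ℕ → K} (H : Act h a) (har : a r = 1) (has : a s ≠ 1) (t u : K) :
    B hsurj (D.scGen K r t) (D.scGen K s u) = 1 :=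
  (B_eq_one_iff hsurj hc).2 fun _ _ hp hq => commute_of_act hsurj hc hr hs hcomm H har has hp hq

include hc in
/-- The pairing with a functional taking the values `0`, `1` on the two roots. -/
theorem B_lin (hD : InList D) {c : K} (hc0 : c ≠ 0) (hc1 : c ≠ 1) {r s : ℕ} (hr : r < D.nroots) (hs : s < D.nroots)
    (hcomm : ∀ t u : K, D.scGen K r t * D.scGen K s u = D.scGen K s u * D.scGen K r t)
    (hm : ∃ m : ℕ → ℤ, lin D m r = 0 ∧ lin D m s = 1) (t u : K) :
    B hsurj (D.scGen K r t) (D.scGen K s u) = 1 := by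
  obtain ⟨m, h0, h1⟩ := hm
  obtain ⟨h, H⟩ := exists_act hD m hc0
  refine B_act hsurj hc hr hs hcomm H ?_ ?_ t u
  · show c ^ lin D m r = 1
    rw [h0, zpow_zero]
  · show c ^ lin D m s ≠ 1
    rw [h1, zpow_one]
    exact hc1

include hc in
theorem B_add_left {r s : ℕ}
    (hcomm : ∀ t u : K, D.scGen K r t * D.scGen K s u = D.scGen K s u * D.scGen K r t) (t t' u : K) :
    B hsurj (D.scGen K r (t + t')) (D.scGen K s u) =
      B hsurj (D.scGen K r t) (D.scGen K s u) * B hsurj (D.scGen K r t') (D.scGen K s u) := by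
  rw [← scGen_add', B_mul_left hsurj hc (hcomm t' u)]

include hc in
theorem B_add_right {r s : ℕ}
    (hcomm : ∀ t u : K, D.scGen K r t * D.scGen K s u = D.scGen K s u * D.scGen K r t) (t u u' : K) :
    B hsurj (D.scGen K r t) (D.scGen K s (u + u')) =
      B hsurj (D.scGen K r t) (D.scGen K s u) * B hsurj (D.scGen K r t) (D.scGen K s u') := by
  rw [← scGen_add', B_mul_right hsurj hc (hcomm t u')]

include hc in
theorem B_zero_left (g : D.SteinbergCover K) : B hsurj 1 g = 1 := by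
  have h := B_mul_left hsurj hc (x := 1) (x' := 1) (y := g) (by rw [one_mul, mul_one])
  rw [mul_one] at h
  exact left_eq_mul.1 h

include hc in
theorem B_zero_right (g : D.SteinbergCover K) : B hsurj g 1 = 1 := by
  rw [B_symm, B_zero_left hsurj hc, inv_one]

include hc in
theorem B_sign_left {r s : ℕ}
    (hcomm : ∀ t u : K, D.scGen K r t * D.scGen K s u = D.scGen K s u * D.scGen K r t) {C : ℤ} (hC : C = 1 ∨ C = -1)
    (t u : K) : B hsurj (D.scGen K r (C * t)) (D.scGen K s u) = B hsurj (D.scGen K r t) (D.scGen K s u) ^ C := by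
  rcases hC with rfl | rfl
  · rw [Int.cast_one, one_mul, zpow_one]
  · have h := B_add_left hsurj hc hcomm t (-t) u
    rw [add_neg_cancel, scGen_zero, B_zero_left hsurj hc] at h
    rw [zpow_neg_one, Int.cast_neg, Int.cast_one, neg_one_mul]
    exact (inv_eq_of_mul_eq_one_right h.symm).symm

include hc in
theorem B_sign_right {r s : ℕ}
    (hcomm : ∀ t u : K, D.scGen K r t * D.scGen K s u = D.scGen K s u * D.scGen K r t) {C : ℤ} (hC : C = 1 ∨ C = -1)
    (t u : K) : B hsurj (D.scGen K r t) (D.scGen K s (C * u)) = B hsurj (D.scGen K r t) (D.scGen K s u) ^ C := by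
  rw [B_symm hsurj (D.scGen K s (C * u)), B_sign_left hsurj hc (fun t u => (hcomm u t).symm) hC,
    B_symm hsurj (D.scGen K r t) (D.scGen K s u), inv_zpow, inv_inv]

include hc in
/-- Three elements: the pairing is determined by its value at `(1, 1)`. -/
theorem B_of_one (hall : ∀ t : K, t = 0 ∨ t = 1 ∨ t = -1) {r s : ℕ}
    (hcomm : ∀ t u : K, D.scGen K r t * D.scGen K s u = D.scGen K s u * D.scGen K r t)
    (hb1 : B hsurj (D.scGen K r 1) (D.scGen K s 1) = 1) (t u : K) :
    B hsurj (D.scGen K r t) (D.scGen K s u) = 1 := by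
  rcases hall t with rfl | rfl | rfl
  · rw [scGen_zero, B_zero_left hsurj hc]
  · rcases hall u with rfl | rfl | rfl
    · rw [scGen_zero, B_zero_right hsurj hc]
    · exact hb1
    · have h := B_sign_right hsurj hc hcomm (C := -1) (Or.inr rfl) 1 1
      rw [hb1, one_zpow, mul_one] at h
      exact_mod_cast h
  · rcases hall u with rfl | rfl | rfl
    · rw [scGen_zero, B_zero_right hsurj hc]
    · have h := B_sign_left hsurj hc hcomm (C := -1) (Or.inr rfl) 1 1
      rw [hb1, one_zpow, mul_one] at h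
      exact_mod_cast h
    · have h := B_sign_left hsurj hc hcomm (C := -1) (Or.inr rfl) 1 (-1)
      have h' := B_sign_right hsurj hc hcomm (C := -1) (Or.inr rfl) 1 1
      rw [hb1, one_zpow, mul_one] at h'
      push_cast at h h'
      rw [h', one_zpow, mul_one] at h
      exact h

/-- Conjugation by a root element, one term. -/
theorem conj_one {b p s : ℕ} (hb : b < D.nroots) (hp : p < D.nroots) (h1 : p ≠ b) (h2 : p ≠ D.neg b) {C : ℤ}
    (h : D.commTerms b p = [(s, C, 1, 1)]) (w : K) :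
    (D.scGen K b 1)⁻¹ * D.scGen K p w * D.scGen K b 1 = D.scGen K p w * D.scGen K s (((-C : ℤ) : K) * w) := by
  rw [scGen_conj hb hp h1 h2 1 w]
  have h3 : D.commWord K b p 1 w = [(s, (C : K) * (-1) ^ 1 * w ^ 1)] := by
    show (D.commTerms b p).map _ = _
    rw [h]; rfl
  rw [h3, word_cons, word_nil, mul_one]
  congr 2
  push_cast
  ring

end

theorem alg {G : Type v} [Group G] {d b : G} {C₁ C₂ C₃ C₄ : ℤ} (c2 : C₂ = 1 ∨ C₂ = -1) (c3 : C₃ = 1 ∨ C₃ = -1)
    (c4 : C₄ = 1 ∨ C₄ = -1) (cc : C₁ * C₂ = C₃ * C₄) (e1 : d ^ (-C₁) * b ^ C₂ = 1) (e2 : d ^ (-C₃) * b ^ (-C₄) = 1)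
    (hd : d ^ 3 = 1) : b = 1 := by
  have a1 : b = d ^ (C₁ * C₂) := by
    have h : b ^ C₂ = d ^ C₁ := by rw [zpow_neg, inv_mul_eq_one] at e1; exact e1.symm
    rw [zpow_mul, ← h, ← zpow_mul]
    rcases c2 with h | h <;> rw [h] <;> simp
  have a2 : b = d ^ (-(C₃ * C₄)) := by
    have h : b ^ (-C₄) = d ^ C₃ := by rw [zpow_neg, inv_mul_eq_one] at e2; exact e2.symm
    rw [← mul_neg, zpow_mul, ← h, ← zpow_mul]
    rcases c4 with h | h <;> rw [h] <;> simp
  rw [← cc] at a2
  have hcc : C₁ * C₂ = 1 ∨ C₁ * C₂ = -1 := by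
    rw [cc]
    rcases c3 with h | h <;> rcases c4 with h' | h' <;> rw [h, h'] <;> simp
  have h1 : d * d = 1 := by
    rcases hcc with h | h
    · rw [h, zpow_neg, zpow_one] at a2
      rw [h, zpow_one] at a1
      exact mul_eq_one_iff_eq_inv.2 (a1.symm.trans a2)
    · rw [h, neg_neg, zpow_one] at a2
      rw [h, zpow_neg, zpow_one] at a1
      exact mul_eq_one_iff_eq_inv.2 (a2.symm.trans a1)
  have h2 : d = 1 := by
    rw [pow_succ, pow_two, h1, one_mul] at hd
    exact hd
  rw [a1, h2, one_zpow]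

/-! ### Type `D₄` -/

section D4

variable {K : Type u} [Field K] {E : Type v} [Group E] {π : E →* chevD4.SteinbergCover K}
  (hsurj : Function.Surjective π) (hc : π.ker ≤ Subgroup.center E)

theorem inList : InList chevD4 := by simp [InList]

theorem pow_three {r s : ℕ} (h3 : (3 : K) = 0) {π : E →* chevD4.SteinbergCover K}
    (hsurj : Function.Surjective π) (hc : π.ker ≤ Subgroup.center E)
    (hcomm : ∀ t u : K, chevD4.scGen K r t * chevD4.scGen K s u = chevD4.scGen K s u * chevD4.scGen K r t) (t u : K) :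
    B hsurj (chevD4.scGen K r t) (chevD4.scGen K s u) ^ 3 = 1 := by
  have h1 := B_add_left hsurj hc hcomm (t + t) t u
  rw [B_add_left hsurj hc hcomm t t u] at h1
  have h2 : t + t + t = 0 := by linear_combination t * h3
  rw [h2, scGen_zero, B_zero_left hsurj hc] at h1
  rw [pow_succ, pow_two]
  exact h1.symm

include hc in
/-- The pairing of orthogonal root subgroups vanishes (three elements). -/
theorem B_orth_three (h3 : (3 : K) = 0) (h2 : (2 : K) ≠ 0) (hall : ∀ t : K, t = 0 ∨ t = 1 ∨ t = -1)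
    {p q r s b b' : ℕ} {C₁ C₂ C₃ C₄ : ℤ} (W : HW p q r s b b' C₁ C₂ C₃ C₄) (t u : K) :
    B hsurj (chevD4.scGen K p t) (chevD4.scGen K q u) = 1 := by
  have hm1 : (-1 : K) ≠ 0 := neg_ne_zero.2 one_ne_zero
  have hm2 : (-1 : K) ≠ 1 := by
    intro h; apply h2; linear_combination -h
  have crp : ∀ t u : K, _ := commute_of_nil (K := K) (D := chevD4) W.hr W.hp ⟨W.rp.2.1, W.rp.2.2.1, W.rp.2.2.2⟩
  have crq : ∀ t u : K, _ := commute_of_nil (K := K) (D := chevD4) W.hr W.hq W.rq
  have cqs : ∀ t u : K, _ := commute_of_nil (K := K) (D := chevD4) W.hq W.hs W.qs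
  have cps : ∀ t u : K, _ := commute_of_nil (K := K) (D := chevD4) W.hp W.hs W.ps
  have crs : ∀ t u : K, _ := commute_of_nil (K := K) (D := chevD4) W.hr W.hs W.rs
  have cpq : ∀ t u : K, _ := commute_of_nil (K := K) (D := chevD4) W.hp W.hq W.pq
  have brp : ∀ t u : K, _ := B_lin hsurj hc inList hm1 hm2 W.hr W.hp crp W.mrp
  have brq : ∀ t u : K, _ := B_lin hsurj hc inList hm1 hm2 W.hr W.hq crq W.mrq
  have bqs : ∀ t u : K, _ := B_lin hsurj hc inList hm1 hm2 W.hq W.hs cqs W.mqs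
  have bps : ∀ t u : K, _ := B_lin hsurj hc inList hm1 hm2 W.hp W.hs cps W.mps
  set bb := B hsurj (chevD4.scGen K p 1) (chevD4.scGen K q 1) with hbb
  set d := B hsurj (chevD4.scGen K r 1) (chevD4.scGen K s 1) with hd
  have hbk : bb ∈ π.ker := B_mem hsurj (cpq 1 1)
  -- first conjugation
  have n1 : -C₁ = 1 ∨ -C₁ = -1 := by rcases W.c1 with h | h <;> omega
  have n2 : -C₂ = 1 ∨ -C₂ = -1 := by rcases W.c2 with h | h <;> omega
  have n3 : -C₃ = 1 ∨ -C₃ = -1 := by rcases W.c3 with h | h <;> omega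
  have n4 : -C₄ = 1 ∨ -C₄ = -1 := by rcases W.c4 with h | h <;> omega
  have e1 : d ^ (-C₁) * bb ^ C₂ = 1 := by
    have h := B_conj hsurj hc (crp 1 1) (chevD4.scGen K b 1)
    rw [brp 1 1, conj_one W.hb W.hr W.ne.2.2.1 W.ne.2.2.2.1 W.t2, conj_one W.hb W.hp W.ne.1 W.ne.2.1 W.t1,
      B_mul_left hsurj hc, B_mul_right hsurj hc (crs _ _), B_mul_right hsurj hc (cqs _ _), brp, bqs,
      B_sign_right hsurj hc crs n1, B_sign_left hsurj hc (fun t u => (cpq u t).symm) n2, B_symm hsurj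
      (chevD4.scGen K p 1) (chevD4.scGen K q 1), inv_zpow, zpow_neg _ C₂, inv_inv, one_mul, mul_one] at h
    · exact h
    · rw [← mul_assoc, (cpq _ _).symm, mul_assoc, cqs, mul_assoc]
  have e2 : d ^ (-C₃) * bb ^ (-C₄) = 1 := by
    have h := B_conj hsurj hc (crq 1 1) (chevD4.scGen K b' 1)
    rw [brq 1 1, conj_one W.hb' W.hr W.ne.2.2.2.2.2.2.1 W.ne.2.2.2.2.2.2.2 W.t4,
      conj_one W.hb' W.hq W.ne.2.2.2.2.1 W.ne.2.2.2.2.2.1 W.t3,
      B_mul_left hsurj hc, B_mul_right hsurj hc (crs _ _), B_mul_right hsurj hc (cps _ _), brq, bps,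
      B_sign_right hsurj hc crs n3, B_sign_left hsurj hc cpq n4, one_mul, mul_one] at h
    · exact h
    · rw [← mul_assoc, cpq, mul_assoc, cps, mul_assoc]
  have hd3 : d ^ 3 = 1 := pow_three h3 hsurj hc crs 1 1
  have hb1 : bb = 1 := alg W.c2 W.c3 W.c4 W.cc e1 e2 hd3
  exact B_of_one hsurj hc hall cpq hb1 t u

include hc in
/-- Lifts of orthogonal root elements commute. -/
theorem orth_comm (hK : ∃ x : K, x ≠ 0 ∧ x ≠ 1) {p q : ℕ} (hp : p < 24) (hq : q < 24) (h1 : q ≠ p)
    (h2 : q ≠ chevD4.neg p) (hcar : car chevD4 q p = 0) (hnil : chevD4.commTerms p q = [])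
    (hcert : ∃ c ∈ hwCert, c.1 = p ∧ c.2.1 = q) (t u : K) :
    B hsurj (chevD4.scGen K p t) (chevD4.scGen K q u) = 1 := by
  rcases field_cases hK with ⟨c, hc0, hc2⟩ | ⟨h3, h2', hall⟩
  · obtain ⟨h, H⟩ := exists_act inList (co chevD4 q) hc0
    refine B_act hsurj hc hp hq (fun t u => comm_of_nil hp hq h1 h2 hnil t u) H ?_ ?_ t u
    · show c ^ lin chevD4 (co chevD4 q) p = 1
      rw [lin_co, hcar, zpow_zero]
    · show c ^ lin chevD4 (co chevD4 q) q ≠ 1
      rw [lin_co, (RootComb.good_of_mem inList).car_self hq]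
      exact_mod_cast hc2
  · obtain ⟨⟨p', q', r, s, b, b', C₁, C₂, C₃, C₄⟩, hmem, e1, e2⟩ := hcert
    dsimp only at e1 e2
    subst e1
    subst e2
    exact B_orth_three hsurj hc h3 h2' hall (hw_of_mem hmem) t u

include hsurj hc in
theorem ab_D4 {c : K} (hc0 : c ≠ 0) (hc1 : c ≠ 1) {s : ℕ} (hs : s < 24) : Ab chevD4 π s := by
  obtain ⟨a, b, C, ha, hb, t1, hC, t2, t3, m1, m2, n1, n2, n3, n4, n5, n6⟩ := exists_ab hs
  refine ab_of_closure hsurj hc (Q := {a, b}) ?_ ?_
  · intro u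
    have h1 := conj_one (K := K) (D := chevD4) ha hb n5 n6 t1 (-C * u)
    have h2 : chevD4.scGen K s u = (chevD4.scGen K b (-C * u))⁻¹ *
        ((chevD4.scGen K a 1)⁻¹ * chevD4.scGen K b (-C * u) * chevD4.scGen K a 1) := by
      rw [h1, inv_mul_cancel_left]
      congr 1
      rcases hC with rfl | rfl <;> push_cast <;> ring
    rw [h2]
    have hm : ∀ q ∈ ({a, b} : Set ℕ), ∀ v : K, chevD4.scGen K q v ∈
        Subgroup.closure {x | ∃ q ∈ ({a, b} : Set ℕ), ∃ v : K, x = chevD4.scGen K q v} :=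
      fun q hq v => Subgroup.subset_closure ⟨q, hq, v, rfl⟩
    have ma := hm a (by simp)
    have mb := hm b (by simp)
    exact mul_mem (inv_mem (mb _)) (mul_mem (mul_mem (inv_mem (ma _)) (mb _)) (ma _))
  · rintro q (rfl | rfl) p p' t v hp hp'
    · exact (B_eq_one_iff hsurj hc).1 (B_lin hsurj hc inList hc0 hc1 hs ha
        (fun t u => comm_of_nil hs ha n1 n2 t2 t u) m1 t v) p p' hp hp'
    · exact (B_eq_one_iff hsurj hc).1 (B_lin hsurj hc inList hc0 hc1 hs hb
        (fun t u => comm_of_nil hs hb n3 n4 t3 t u) m2 t v) p p' hp hp'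

include hsurj hc in
/-- **Central extensions of the group of type `D₄` split, over a field with more than two elements.** -/
theorem exists_section (hK : ∃ x : K, x ≠ 0 ∧ x ≠ 1) :
    ∃ τ : chevD4.SteinbergCover K →* E, π.comp τ = MonoidHom.id _ := by
  classical
  obtain ⟨c, hc0, hc1⟩ := hK
  have hK' : ∃ x : K, x ≠ 0 ∧ x ≠ 1 := ⟨c, hc0, hc1⟩
  have hD := inList
  have hperf : commutator (chevD4.SteinbergCover K) = ⊤ :=
    Cfsg.Agent.S2395.result chevD4 hD fun _ => hK'
  have h1 : ∀ s < chevD4.nroots, ∃ (h : chevD4.SteinbergCover K) (a : ℕ → K), Act h a ∧ a s ≠ 1 := by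
    intro s hs
    obtain ⟨m, hm⟩ := PairFacts.exists_one hD (PairFacts.chk1_of_mem (by simp)) hs
    obtain ⟨h, H⟩ := exists_act hD m hc0
    exact ⟨h, _, H, by show c ^ lin chevD4 m s ≠ 1; rw [hm, zpow_one]; exact hc1⟩
  let H : ℕ → chevD4.SteinbergCover K := fun s => if h : s < chevD4.nroots then (h1 s h).choose else 1
  let A : ℕ → ℕ → K := fun s => if h : s < chevD4.nroots then (h1 s h).choose_spec.choose else 1
  have hA : ∀ s < chevD4.nroots, Act (H s) (A s) ∧ A s s ≠ 1 := by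
    intro s hs
    have := (h1 s hs).choose_spec.choose_spec
    simp only [H, A, dif_pos hs]
    exact this
  have hy : ∀ (r : ℕ) (t : K), r < chevD4.nroots → π (yy hsurj H A r t) = chevD4.scGen K r t :=
    fun r t hr => map_yy hsurj H A hA hr t
  have hadd : ∀ r < chevD4.nroots, ∀ t u : K, yy hsurj H A r t * yy hsurj H A r u = yy hsurj H A r (t + u) :=
    fun r hr t u => yy_add hsurj hc H A hA hr (ab_D4 hsurj hc hc0 hc1 hr) t u
  refine LiftMain.exists_section hD hy hadd (LiftMore.rel2_all hD (setup hD hc hy hadd) ?_)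
  intro r s hr hs hsr hsn
  rcases pair_cases hr hs hsr hsn with ⟨h2, h3, h4⟩ | ⟨m, h2, h3⟩
  · left
    apply rel2_of_nil h3
    intro t u
    exact (B_eq_one_iff hsurj hc).1 (orth_comm hsurj hc hK' hr hs hsr hsn h2 h3 h4 t u) _ _ (hy r t hr) (hy s u hs)
  · right; left
    obtain ⟨h, H'⟩ := exists_act hD m hc0
    obtain ⟨g, rfl⟩ := hsurj h
    refine ⟨g, _, fun q hq u => conj_yy hsurj hc hperf H A hA hq u H', ?_, ?_⟩
    · show c ^ lin chevD4 m r = 1
      rw [h2, zpow_zero]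
    · show c ^ lin chevD4 m s ≠ 1
      rw [h3, zpow_one]
      exact hc1

end D4

end Cfsg.Agent.H134.SmallD4
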